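import Cfsg.Agent.H487.SN.Refl

/-!
# S3831 [E6]: `PSU_n(2)`, `n ≥ 5`, elements of order six and nine (helper487)

`r69_psu_two`.
-/

set_option autoImplicit false
set_option linter.unusedSectionVars false

namespace Cfsg.Agent.H487.SN

open Cfsg Matrix
open Cfsg.Agent.LieClassical.HermBasic Cfsg.Agent.LieClassical.HermSiegel
open Cfsg.Agent.ClassicalGeometry.PSUAutBasic
open Cfsg.Agent.UGT.U2.FOne.PSU (Rep exists_rep)
open Cfsg.Agent.H459.Rad (PS)
open Cfsg.Agent.H21.SN (R69 PS.pow)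

variable {F : Type*} [Field F] [Fintype F] {n : ℕ}

theorem rep_ext {α β : MulAut (PSU n F 2)} {X T : (Fin n → F) → (Fin n → F)} {σ τ : F ≃+* F}
    (h : Rep α X σ) (h' : Rep β T τ) (hX : ∀ v, X v = T v) : α = β := by
  ext x
  obtain ⟨g, rfl⟩ := pr_surjective x
  obtain ⟨g1, h1, h2⟩ := h.lift g
  obtain ⟨g2, h3, h4⟩ := h'.lift g
  rw [h1, h3]
  congr 1
  apply ext_act
  intro v
  obtain ⟨u, rfl⟩ := h'.sur v
  have h5 := h2 u
  rw [hX, hX] at h5
  rw [h5, h4]

/-- reflections -/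
def rf (κ : F) (e v : Fin n → F) : Fin n → F := v + (κ * hermForm n F 2 v e) • e

theorem quad (hF : Fintype.card F = 2 ^ 2) {κ : F} (h0 : κ ≠ 0) (h1 : κ ≠ 1) : κ ^ 2 + κ + 1 = 0 := by
  have h4 := cube hF h0
  have h5 : (κ - 1) * (κ ^ 2 + κ + 1) = 0 := by linear_combination h4
  exact (mul_eq_zero.1 h5).resolve_left (sub_ne_zero.2 h1)

theorem rf_braid (hF : Fintype.card F = 2 ^ 2) {κ : F} (h0 : κ ≠ 0) (h1 : κ ≠ 1) {a b : Fin n → F}
    (ha : hermForm n F 2 a a = 1) (hb : hermForm n F 2 b b = 1) (hab : hermForm n F 2 a b ≠ 0) (v : Fin n → F) :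
    rf κ a (rf κ b (rf κ a v)) = rf κ b (rf κ a (rf κ b v)) := by
  have hq := quad hF h0 h1
  have h2 := Q4.two_eq_zero hF
  have hN := cube hF hab
  have hba := herm_swap hF a b
  unfold rf
  simp only [herm_add_left, herm_smul_left, ha, hb, hba]
  obtain ⟨x, hx⟩ : ∃ x, x = hermForm n F 2 v a := ⟨_, rfl⟩
  obtain ⟨y, hy⟩ : ∃ y, y = hermForm n F 2 v b := ⟨_, rfl⟩
  obtain ⟨α, hα⟩ : ∃ α, α = hermForm n F 2 a b := ⟨_, rfl⟩
  rw [← hx, ← hy, ← hα]
  rw [← hα] at hN
  match_scalars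
  · ring
  · linear_combination κ * x * hq + κ ^ 3 * x * hN
  · linear_combination (-κ) * y * hq - κ ^ 3 * y * hN

theorem rf_comm {κ : F} {a b : Fin n → F}
    (hab : hermForm n F 2 a b = 0) (hba : hermForm n F 2 b a = 0) (v : Fin n → F) :
    rf κ a (rf κ b v) = rf κ b (rf κ a v) := by
  unfold rf
  simp only [herm_add_left, herm_smul_left, hab, hba, mul_zero, add_zero]
  abel

theorem rf_conj (hF : Fintype.card F = 2 ^ 2) {u γ : MulAut (PSU n F 2)} {κ : F} {e : Fin n → F}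
    (hu : Rep u (rf κ e) (1 : F ≃+* F)) {A : (Fin n → F) → (Fin n → F)} (hA : Rep γ A (1 : F ≃+* F)) :
    Rep (γ * u * γ⁻¹) (rf κ (A e)) (1 : F ≃+* F) := by
  obtain ⟨A', h1, h2, h3⟩ := hA.exists_inv hF
  have h4 := (hA.mul hu).mul h1
  rw [one_mul, inv_one, mul_one] at h4
  have h5 : (fun v => A (rf κ e (A' v))) = rf κ (A e) := by
    funext v
    unfold rf
    rw [hA.add, hA.smul, h3]
    have h6 : hermForm n F 2 (A' v) e = hermForm n F 2 v (A e) := by
      rw [← rep_herm hA, h3]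
    rw [h6]
    rfl
  rw [h5] at h4
  exact h4

/-- **a chain of four reflections** -/
theorem false_of_chain (hF : Fintype.card F = 2 ^ 2) (hn : 3 ≤ n) {κ : F} (h0 : κ ≠ 0) (h1 : κ ≠ 1)
    {K : Subgroup (MulAut (PSU n F 2))} (hK : Group.IsSolvable K) {r1 r2 r3 r4 : MulAut (PSU n F 2)}
    (m1 : r1 ∈ K) (m2 : r2 ∈ K) (m3 : r3 ∈ K) (m4 : r4 ∈ K) {a1 a2 a3 a4 : Fin n → F}
    (e1 : Rep r1 (rf κ a1) (1 : F ≃+* F)) (e2 : Rep r2 (rf κ a2) (1 : F ≃+* F))
    (e3 : Rep r3 (rf κ a3) (1 : F ≃+* F)) (e4 : Rep r4 (rf κ a4) (1 : F ≃+* F))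
    (u1 : hermForm n F 2 a1 a1 = 1) (u2 : hermForm n F 2 a2 a2 = 1) (u3 : hermForm n F 2 a3 a3 = 1)
    (u4 : hermForm n F 2 a4 a4 = 1) (u12 : hermForm n F 2 a1 a2 ≠ 0) (u23 : hermForm n F 2 a2 a3 ≠ 0)
    (u34 : hermForm n F 2 a3 a4 ≠ 0) (u13 : hermForm n F 2 a1 a3 = 0) (u14 : hermForm n F 2 a1 a4 = 0)
    (u24 : hermForm n F 2 a2 a4 = 0) : False := by
  have br : ∀ {r s : MulAut (PSU n F 2)} {a b : Fin n → F}, Rep r (rf κ a) (1 : F ≃+* F) →
      Rep s (rf κ b) (1 : F ≃+* F) → hermForm n F 2 a a = 1 → hermForm n F 2 b b = 1 → hermForm n F 2 a b ≠ 0 →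
      r * s * r = s * r * s := fun hr hs ha hb hab =>
    rep_ext ((hr.mul hs).mul hr) ((hs.mul hr).mul hs) fun v => rf_braid hF h0 h1 ha hb hab v
  have cm : ∀ {r s : MulAut (PSU n F 2)} {a b : Fin n → F}, Rep r (rf κ a) (1 : F ≃+* F) →
      Rep s (rf κ b) (1 : F ≃+* F) → hermForm n F 2 a b = 0 → r * s = s * r := fun hr hs hab =>
    rep_ext (hr.mul hs) (hs.mul hr) fun v => rf_comm hab (herm_eq_zero_swap hF hab) v
  obtain ⟨h5, h6⟩ := braid_eq_mem hK m1 m2 m3 m4 (br e1 e2 u1 u2 u12) (br e2 e3 u2 u3 u23) (br e3 e4 u3 u4 u34)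
    (cm e1 e3 u13) (cm e1 e4 u14) (cm e2 e4 u24)
  rw [h6, h5] at e3
  obtain ⟨-, c, hc, hc'⟩ := Rep.unique hF hn e1 e3
  have k1 := congrArg (fun v => hermForm n F 2 v a1) (hc' a1)
  have k3 := congrArg (fun v => hermForm n F 2 v a3) (hc' a3)
  have u31 := herm_eq_zero_swap hF u13
  simp only [rf, herm_add_left, herm_smul_left, u1, u3, u13, u31, mul_zero, mul_one, add_zero] at k1 k3
  apply h0
  have h2 := Q4.two_eq_zero hF
  have h7 : κ ^ 2 = 0 := by linear_combination (-1) * k1 + (1 + κ) * k3 - κ * h2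
  exact pow_eq_zero_iff (two_ne_zero) |>.1 h7

/-- a unit vector `v` with `v`, `S v` orthogonal, in an invariant orthogonal complement -/
theorem exists_perp_unit (hF : Fintype.card F = 2 ^ 2) {t : MulAut (PSU n F 2)} {S : (Fin n → F) → (Fin n → F)}
    (hS : Rep t S (1 : F ≃+* F)) (hS2 : ∀ v, S (S v) = v) {k : ℕ} {f : Fin k → Fin n → F} (ho : Orn f)
    (hinv : ∀ v, (∀ i, hermForm n F 2 v (f i) = 0) → ∀ i, hermForm n F 2 (S v) (f i) = 0)
    {w : Fin n → F} (hw : ∀ i, hermForm n F 2 w (f i) = 0) (hne : S w ≠ w) :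
    ∃ v, hermForm n F 2 v v = 1 ∧ hermForm n F 2 v (S v) = 0 ∧ ∀ i, hermForm n F 2 v (f i) = 0 := by
  have h2 := Q4.two_eq_zero hF
  -- `(v, S v)` is in the prime field
  have hs : ∀ u v, hermForm n F 2 (S u) v = hermForm n F 2 u (S v) := fun u v => by
    rw [← rep_herm hS, hS2]
  have h01 : ∀ v, hermForm n F 2 v (S v) = 0 ∨ hermForm n F 2 v (S v) = 1 := by
    intro v
    have h := herm_swap hF v (S v)
    rw [hs] at h
    have h1 : hermForm n F 2 v (S v) * (hermForm n F 2 v (S v) - 1) = 0 := by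
      linear_combination (-1) * h
    rcases mul_eq_zero.1 h1 with h2 | h2
    · exact Or.inl h2
    · exact Or.inr (sub_eq_zero.1 h2)
  -- it suffices that one of the two values is one and the other zero
  have key : ∀ v, (∀ i, hermForm n F 2 v (f i) = 0) → hermForm n F 2 v v + hermForm n F 2 v (S v) = 1 →
      ∃ v, hermForm n F 2 v v = 1 ∧ hermForm n F 2 v (S v) = 0 ∧ ∀ i, hermForm n F 2 v (f i) = 0 := by
    intro v hv h
    rcases h01 v with h1 | h1
    · exact ⟨v, by rw [h1, add_zero] at h; exact h, h1, hv⟩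
    · have h3 : hermForm n F 2 v v = 0 := by rw [h1] at h; linear_combination h
      obtain ⟨a, ha0, ha1⟩ := Q4.exists_gen hF
      have hq := quad hF ha0 ha1
      have hc := cube hF ha0
      have h4 : hermForm n F 2 (S v) v = 1 := by rw [hs, h1]
      refine ⟨a • v + a ^ 2 • S v, ?_, ?_, fun i => ?_⟩
      · rw [herm_add_left, herm_add_right hF, herm_add_right hF, herm_smul_left, herm_smul_left, herm_smul_left,
          herm_smul_left, herm_smul_right, herm_smul_right, herm_smul_right, herm_smul_right, rep_herm hS, h1, h3, h4]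
        linear_combination (a ^ 2 + a) * hc + hq - h2
      · rw [hS.add, rep_smul hS, rep_smul hS, hS2, herm_add_left, herm_add_right hF, herm_add_right hF,
          herm_smul_left, herm_smul_left, herm_smul_left,
          herm_smul_left, herm_smul_right, herm_smul_right, herm_smul_right, herm_smul_right, rep_herm hS, h1, h3, h4]
        linear_combination (2 + a ^ 3) * hc + h2
      · rw [herm_add_left, herm_smul_left, herm_smul_left, hv, hinv v hv]
        ring
  -- a pair with nonzero value of `(u, v + S v)`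
  have hz0 : S w + w ≠ 0 := by
    intro h
    apply hne
    have h3 : w + w = 0 := by rw [← two_smul F w, h2, zero_smul]
    exact add_right_cancel (h.trans h3.symm)
  obtain ⟨w'', hw''⟩ := exists_herm_ne_zero hF hz0
  have hzf : ∀ i, hermForm n F 2 (S w + w) (f i) = 0 := fun i => by
    rw [herm_add_left, hinv w hw, hw, add_zero]
  obtain ⟨w', hw'⟩ : ∃ w', w' = w'' - ∑ i, hermForm n F 2 w'' (f i) • f i := ⟨_, rfl⟩
  have hw'f : ∀ i, hermForm n F 2 w' (f i) = 0 := fun i => by rw [hw']; exact perp_proj ho w'' i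
  have h3 : hermForm n F 2 (S w + w) w' ≠ 0 := by rw [hw', herm_proj hF w'' hzf]; exact hw''
  by_contra hcon
  have hg : ∀ v, (∀ i, hermForm n F 2 v (f i) = 0) → hermForm n F 2 v v + hermForm n F 2 v (S v) = 0 := by
    intro v hv
    have h4 : ¬ hermForm n F 2 v v + hermForm n F 2 v (S v) = 1 := fun h => hcon (key v hv h)
    rcases self01 hF v with h5 | h5 <;> rcases h01 v with h6 | h6
    · rw [h5, h6, add_zero]
    · exact absurd (by rw [h5, h6, zero_add]) h4
    · exact absurd (by rw [h5, h6, add_zero]) h4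
    · rw [h5, h6, one_add_one_eq_two, h2]
  obtain ⟨β, hβ⟩ : ∃ β, β = hermForm n F 2 w w' + hermForm n F 2 w (S w') := ⟨_, rfl⟩
  have hβ0 : β ≠ 0 := by
    rw [herm_add_left, hs, add_comm, ← hβ] at h3
    exact h3
  have hβ' : hermForm n F 2 w' w + hermForm n F 2 w' (S w) = β ^ 2 := by
    have e1 := herm_swap hF w w'
    have e2 := herm_swap hF (S w) w'
    rw [hs] at e2
    rw [e1, e2, hβ, add_pow_q hF]
  obtain ⟨x, hx⟩ := exists_trace_eq hF (c := 1) (one_pow 2)
  have hx0 : x ≠ 0 := by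
    rintro rfl
    rw [zero_pow (by norm_num), add_zero] at hx
    exact zero_ne_one hx
  obtain ⟨y, hy⟩ : ∃ y, y * β = x := ⟨x * β⁻¹, by rw [mul_assoc, inv_mul_cancel₀ hβ0, mul_one]⟩
  have hy0 : y ≠ 0 := by
    rintro rfl
    rw [zero_mul] at hy
    exact hx0 hy.symm
  have hyc := cube hF hy0
  -- `v = w' + y w`
  have h4 := hg (w' + y • w) fun i => by rw [herm_add_left, herm_smul_left, hw'f, hw, mul_zero, add_zero]
  have h5 := hg w' hw'f
  have h6 := hg w hw
  simp only [hS.add, rep_smul hS, herm_add_left, herm_add_right hF, herm_smul_left, herm_smul_right] at h4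
  apply one_ne_zero (α := F)
  linear_combination (-1) * hx - hy - (y * β + x) * hy + y * hβ - y ^ 2 * hβ' + h4 - h5 - y ^ 3 * h6

/-- **a frame with a chain of reflections** -/
theorem false_of_frame (hF : Fintype.card F = 2 ^ 2) (hn : 3 ≤ n) {x : MulAut (PSU n F 2)} (hP : PS 2 x)
    {κ : F} (h0 : κ ≠ 0) (h1 : κ ≠ 1) {φ : Q4 →+* F} {k : ℕ} {f : Fin k → Fin n → F} (ho : Orn f)
    {e : Fin n → F} (hu : Rep (x ^ 4) (rf κ e) (1 : F ≃+* F)) (i0 : Fin k) (he : f i0 = e) {S : (Fin n → F) → (Fin n → F)}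
    (ht : Rep (x ^ 3) S (1 : F ≃+* F)) {σ : Equiv.Perm (Fin k)} (hS : ∀ i, S (f i) = f (σ i))
    (l : List (Fin k → Q4)) (b : Fin k → Q4) (hl : ∀ c ∈ l, hq c c = 0) (hb : tql l b = Pi.single i0 1)
    (hc : Chain (tql l (fun j => b (σ.symm j))) (tql l (Pi.single i0 1)) (Pi.single i0 1)
      (fun j => tql l (Pi.single i0 1) (σ.symm j))) : False := by
  obtain ⟨g, hg⟩ := exists_prod hF (φ := φ) ho l hl
  obtain ⟨m, hm⟩ : ∃ m : MulAut (PSU n F 2), m = MulAut.conj (pr n F 2 g) := ⟨_, rfl⟩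
  have hK := ps2 hP (pr n F 2 g)
  rw [← hm] at hK
  obtain ⟨K, hKd⟩ : ∃ K, K = Subgroup.closure ({x, m * x * m⁻¹} : Set (MulAut (PSU n F 2))) := ⟨_, rfl⟩
  rw [← hKd] at hK
  have hx : x ∈ K := by rw [hKd]; exact Subgroup.subset_closure (by simp)
  have hy : m * x * m⁻¹ ∈ K := by rw [hKd]; exact Subgroup.subset_closure (by simp)
  have hmR : Rep m (act g) (1 : F ≃+* F) := by rw [hm]; exact Cfsg.Agent.H106.MOwnU.rep_conj g
  have hmR' : Rep m⁻¹ (act g⁻¹) (1 : F ≃+* F) := by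
    have h2 := Cfsg.Agent.H106.MOwnU.rep_conj (F := F) (q := 2) (n := n) g⁻¹
    rw [map_inv, map_inv, ← hm] at h2
    exact h2
  -- the vectors
  have hScb : ∀ a, S (cb φ f a) = cb φ f (fun j => a (σ.symm j)) := by
    intro a
    have h2 := map_cb ht (φ := φ) (f := f) (π := σ) (d := fun _ => 1) (fun i => by rw [hS, map_one, one_smul]) a
    simpa only [one_mul] using h2
  have hf0 : e = cb φ f (Pi.single i0 1) := by rw [cb_single, he]
  have hginv : act g⁻¹ e = cb φ f b := by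
    rw [hf0, ← hb, ← hg, act_inv_act]
  obtain ⟨u1, u2, u3, u4, u12, u23, u34, u13, u14, u24⟩ := hc
  have hφ0 : ∀ {q : Q4}, q ≠ 0 → φ q ≠ 0 := fun {q} hq h => hq (phi_injective φ (by rw [h, map_zero]))
  -- the reflections
  have e1 : Rep ((m * x ^ 3 * m⁻¹) * x ^ 4 * (m * x ^ 3 * m⁻¹)⁻¹)
      (rf κ (cb φ f (tql l (fun j => b (σ.symm j))))) (1 : F ≃+* F) := by
    have h2 := (hmR.mul ht).mul hmR'
    rw [one_mul, one_mul] at h2
    have h3 := rf_conj hF hu h2
    rw [hginv, hScb, hg] at h3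
    exact h3
  have e2 : Rep (m * x ^ 4 * m⁻¹) (rf κ (cb φ f (tql l (Pi.single i0 1)))) (1 : F ≃+* F) := by
    have h3 := rf_conj hF hu hmR
    rw [hf0, hg] at h3
    exact h3
  have e3 : Rep (x ^ 4) (rf κ (cb φ f (Pi.single i0 1))) (1 : F ≃+* F) := by
    rw [← hf0]; exact hu
  have e4 : Rep ((x ^ 3 * m) * x ^ 4 * (x ^ 3 * m)⁻¹)
      (rf κ (cb φ f (fun j => tql l (Pi.single i0 1) (σ.symm j)))) (1 : F ≃+* F) := by
    have h2 := ht.mul hmR
    rw [one_mul] at h2
    have h3 := rf_conj hF hu h2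
    rw [hf0, hg, hScb] at h3
    exact h3
  have m3 : x ^ 4 ∈ K := Subgroup.pow_mem _ hx 4
  have m3' : x ^ 3 ∈ K := Subgroup.pow_mem _ hx 3
  have c3 : m * x ^ 3 * m⁻¹ ∈ K := by
    have := Subgroup.pow_mem _ hy 3
    rwa [conj_pow] at this
  have c4 : m * x ^ 4 * m⁻¹ ∈ K := by
    have := Subgroup.pow_mem _ hy 4
    rwa [conj_pow] at this
  have m4 : (x ^ 3 * m) * x ^ 4 * (x ^ 3 * m)⁻¹ ∈ K := by
    have h2 : (x ^ 3 * m) * x ^ 4 * (x ^ 3 * m)⁻¹ = x ^ 3 * (m * x ^ 4 * m⁻¹) * (x ^ 3)⁻¹ := by group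
    rw [h2]
    exact mul_mem (mul_mem m3' c4) (inv_mem m3')
  refine false_of_chain hF hn h0 h1 hK (mul_mem (mul_mem c3 m3) (inv_mem c3)) c4 m3 m4 e1 e2 e3 e4
    ?_ ?_ ?_ ?_ ?_ ?_ ?_ ?_ ?_ ?_
  · rw [herm_cb hF ho, u1, map_one]
  · rw [herm_cb hF ho, u2, map_one]
  · rw [herm_cb hF ho, u3, map_one]
  · rw [herm_cb hF ho, u4, map_one]
  · rw [herm_cb hF ho]; exact hφ0 u12
  · rw [herm_cb hF ho]; exact hφ0 u23
  · rw [herm_cb hF ho]; exact hφ0 u34
  · rw [herm_cb hF ho, u13, map_zero]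
  · rw [herm_cb hF ho, u14, map_zero]
  · rw [herm_cb hF ho, u24, map_zero]

theorem four (hF : Fintype.card F = 2 ^ 2) {a b : F} (ha0 : a ≠ 0) (ha1 : a ≠ 1) : b = 0 ∨ b = 1 ∨ b = a ∨ b = a + 1 := by
  obtain ⟨φ, hφ, hφa⟩ := Q4.exists_phi hF ha0 ha1
  obtain ⟨q, rfl⟩ := hφ.2 b
  rw [← hφa, ← map_one φ, ← map_add]
  have h : ∀ q : Q4, q = 0 ∨ q = 1 ∨ q = Q4.w ∨ q = Q4.w + 1 := by decide
  rcases h q with h | h | h | h
  · left; rw [h, map_zero]
  · right; left; rw [h]
  · right; right; left; rw [h]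
  · right; right; right; rw [h]

theorem sig_sq (hF : Fintype.card F = 2 ^ 2) (σ : F ≃+* F) : σ ^ 2 = 1 := by
  obtain ⟨w, h0, h1⟩ := Q4.exists_gen hF
  have h2 := Q4.two_eq_zero hF
  have hw : σ (σ w) = w := by
    have k0 : σ w ≠ 0 := fun h => h0 ((map_eq_zero σ).1 h)
    have k1 : σ w ≠ 1 := fun h => h1 (σ.injective (by rw [h, map_one]))
    rcases four hF (b := σ w) h0 h1 with h | h | h | h
    · exact absurd h k0
    · exact absurd h k1
    · rw [h, h]
    · rw [h, map_add, map_one, h]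
      linear_combination h2
  ext a
  change σ (σ a) = a
  rcases four hF (b := a) h0 h1 with h | h | h | h
  · rw [h, map_zero, map_zero]
  · rw [h, map_one, map_one]
  · rw [h, hw]
  · rw [h, map_add, map_add, map_one, map_one, hw]

theorem sig_one (hF : Fintype.card F = 2 ^ 2) {σ : F ≃+* F} {κ : F} (h0 : κ ≠ 0) (h1 : κ ≠ 1) (h : σ κ = κ) :
    σ = 1 := by
  ext a
  change σ a = a
  rcases four hF (b := a) h0 h1 with h2 | h2 | h2 | h2
  · rw [h2, map_zero]
  · rw [h2, map_one]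
  · rw [h2, h]
  · rw [h2, map_add, map_one, h]

/-- elements of order three -/
theorem order_three (hF : Fintype.card F = 2 ^ 2) (hn : 5 ≤ n) {u : MulAut (PSU n F 2)} (hP : PS 2 u)
    (h3 : u ^ 3 = 1) (h1 : u ≠ 1) {X : (Fin n → F) → (Fin n → F)} (hX : Rep u X (1 : F ≃+* F)) : IsRefl X := by
  have h4 : Rep (u * (u * u)) (fun v => X (X (X v))) (1 * (1 * 1) : F ≃+* F) := hX.mul (hX.mul hX)
  have h5 : u * (u * u) = 1 := by rw [← h3, pow_succ, pow_two, mul_assoc]
  rw [h5] at h4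
  obtain ⟨-, c, hc, hc'⟩ := Rep.of_one hF (by omega) h4
  have hc0 : c ≠ 0 := by
    rintro rfl
    rw [zero_mul] at hc
    exact zero_ne_one hc
  by_cases hc1 : c = 1
  · refine refl_of_three hF hn hP hX (fun v => by have := hc' v; rwa [hc1, one_smul] at this) fun d hd => h1 ?_
    refine hX.eq_one (c := d) ?_ hd
    rintro rfl
    have hn0 : 0 < n := by omega
    obtain ⟨v, hv⟩ := hX.sur (Pi.single ⟨0, hn0⟩ 1)
    rw [hd, zero_smul] at hv
    have := congrFun hv ⟨0, hn0⟩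
    rw [Pi.single_eq_same] at this
    exact zero_ne_one this
  · exfalso
    exact false_of_six hF (by omega) hP hX (k := 0) (g := fun i => i.elim0) (fun i => i.elim0) (fun i => i.elim0)
      (by omega) hc0 hc1 fun v _ => hc' v

/-- **order nine** -/
theorem order_nine (hF : Fintype.card F = 2 ^ 2) (hn : 5 ≤ n) {x : MulAut (PSU n F 2)} (hP : PS 2 x)
    (hx : orderOf x = 9) : False := by
  obtain ⟨T, σ, hT⟩ := exists_rep hF (by omega) (by omega) x
  have hσ : σ = 1 := by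
    have h9 := hT.pow 9
    have hx9 : x ^ 9 = 1 := by rw [← hx]; exact pow_orderOf_eq_one x
    rw [hx9] at h9
    obtain ⟨h1, -⟩ := Rep.of_one hF (by omega) h9
    calc σ = σ ^ 9 * ((σ ^ 2) ^ 4)⁻¹ := by group
      _ = 1 := by rw [h1, sig_sq hF]; simp
  rw [hσ] at hT
  have h3 : Rep (x ^ 3) (fun v => T (T (T v))) (1 : F ≃+* F) := by
    have h4 : Rep (x * (x * x)) (fun v => T (T (T v))) (1 * (1 * 1) : F ≃+* F) := hT.mul (hT.mul hT)
    have h5 : x * (x * x) = x ^ 3 := by rw [pow_succ, pow_two, mul_assoc]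
    rwa [h5, one_mul, one_mul] at h4
  have ho : orderOf (x ^ 3) = 3 := by
    rw [orderOf_pow_of_dvd (by norm_num) (by rw [hx]; norm_num), hx]
  obtain ⟨e, ζ, κ, he, hζ, hκ0, hκ1, hr⟩ := order_three hF hn (PS.pow hP 3)
    (by have := pow_orderOf_eq_one (x ^ 3); rwa [ho] at this) (fun h => by rw [h, orderOf_one] at ho; omega) h3
  change ∀ v, T (T (T v)) = _ at hr
  -- `T e` is a multiple of `e`
  have hTe : ∃ ξ : F, T e = ξ • e := by
    have h4 : T (T (T (T e))) = T (T (T (T e))) := rfl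
    conv_lhs at h4 => rw [hr (T e)]
    conv_rhs at h4 => rw [hr e]
    rw [rep_smul hT, hT.add, rep_smul hT, he, mul_one] at h4
    have h5 := add_left_cancel (smul_right_injective _ hζ h4)
    refine ⟨hermForm n F 2 (T e) e, ?_⟩
    rw [mul_smul] at h5
    exact (smul_right_injective _ hκ0 h5).symm
  obtain ⟨ξ, hξ⟩ := hTe
  have hξ0 : ξ ≠ 0 := by
    rintro rfl
    have := rep_herm hT e e
    rw [hξ, zero_smul, herm_zero_left, he] at this
    exact zero_ne_one this
  have hζ1 : ζ ≠ 1 := by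
    rintro rfl
    have h4 := hr e
    rw [hξ, rep_smul hT, rep_smul hT, hξ, rep_smul hT, hξ, he, one_smul] at h4
    have h5 := congrArg (fun v => hermForm n F 2 v e) h4
    simp only [herm_add_left, herm_smul_left, he] at h5
    have h6 := cube hF hξ0
    apply hκ0
    linear_combination h6 - h5
  refine false_of_six hF (by omega) hP hT (k := 1) (g := ![e]) (fun i j => ?_) (fun i => ⟨ξ, hξ0, ?_⟩) (by omega)
    hζ hζ1 fun v hv => ?_
  · fin_cases i; fin_cases j
    exact he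
  · fin_cases i
    exact hξ
  · have h4 : hermForm n F 2 v e = 0 := hv 0
    rw [hr, h4, mul_zero, zero_smul, add_zero]

set_option maxHeartbeats 1000000 in
/-- **order six** -/
theorem order_six (hF : Fintype.card F = 2 ^ 2) (hn : 5 ≤ n) {x : MulAut (PSU n F 2)} (hP : PS 2 x)
    (hx : orderOf x = 6) : False := by
  obtain ⟨T, σ, hT⟩ := exists_rep hF (by omega) (by omega) x
  have hx6 : x ^ 6 = 1 := by rw [← hx]; exact pow_orderOf_eq_one x
  -- the element of order three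
  obtain ⟨X, hX⟩ : ∃ X : (Fin n → F) → (Fin n → F), Rep (x ^ 4) X (1 : F ≃+* F) := by
    have h4 := hT.pow 4
    have h5 : σ ^ 4 = 1 := by
      calc σ ^ 4 = (σ ^ 2) ^ 2 := by rw [← pow_mul]
        _ = 1 := by rw [sig_sq hF]
    rw [h5] at h4
    exact ⟨_, h4⟩
  have h43 : (x ^ 4) ^ 3 = 1 := by
    calc (x ^ 4) ^ 3 = (x ^ 6) ^ 2 := by rw [← pow_mul, ← pow_mul]
      _ = 1 := by rw [hx6, one_pow]
  have h41 : x ^ 4 ≠ 1 := fun h => by
    have := Nat.le_of_dvd (by norm_num) (orderOf_dvd_of_pow_eq_one h)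
    omega
  have h31 : x ^ 3 ≠ 1 := fun h => by
    have := Nat.le_of_dvd (by norm_num) (orderOf_dvd_of_pow_eq_one h)
    omega
  obtain ⟨e, ζ, κ, he, hζ, hκ0, hκ1, hr⟩ := order_three hF hn (PS.pow hP 4) h43 h41 hX
  have hR : Rep (x ^ 4) (rf κ e) (1 : F ≃+* F) := by
    have h4 := hX.smulc (c := ζ⁻¹) (cube hF (inv_ne_zero hζ))
    have h5 : (fun v => ζ⁻¹ • X v) = rf κ e := by
      funext v
      rw [hr, smul_smul, inv_mul_cancel₀ hζ, one_smul]
      rfl
    rwa [h5] at h4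
  -- the involution
  obtain ⟨S, τ, hS⟩ : ∃ (S : (Fin n → F) → (Fin n → F)) (τ : F ≃+* F), Rep (x ^ 3) S τ := ⟨_, _, hT.pow 3⟩
  have k1 := hR.mul hS
  have k2 := hS.mul hR
  rw [← pow_add] at k1 k2
  obtain ⟨-, c, hc, hc'⟩ := Rep.unique hF (by omega) k1 k2
  change ∀ v, S (rf κ e v) = c • rf κ e (S v) at hc'
  have hSn : ∀ v, hermForm n F 2 v v = 1 → hermForm n F 2 (S v) (S v) = 1 := fun v hv => by
    rw [hS.herm, hv, map_one]
  have hoe : Orn (![e] : Fin 1 → Fin n → F) := by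
    intro i j
    fin_cases i; fin_cases j
    exact he
  -- `c = 1`
  have hc1 : c = 1 := by
    by_contra hc1
    obtain ⟨v1, hv1, hv1e⟩ := exists_unit hF hoe (by omega)
    obtain ⟨v2, hv2, hv2e⟩ := exists_unit hF (hoe.cons hF hv1 hv1e) (by omega)
    have e1 : hermForm n F 2 v1 e = 0 := hv1e 0
    have e2 : hermForm n F 2 v2 e = 0 := hv2e (Fin.succ 0)
    have e3 : hermForm n F 2 v2 v1 = 0 := hv2e 0
    have h4 : ∀ v, hermForm n F 2 v e = 0 → ∃ a : F, S v = a • e := by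
      intro v hv
      have h5 := hc' v
      have h6 : rf κ e v = v := by unfold rf; rw [hv, mul_zero, zero_smul, add_zero]
      rw [h6] at h5
      unfold rf at h5
      rw [smul_add] at h5
      have h7 : (1 - c) • S v = (c * (κ * hermForm n F 2 (S v) e)) • e := by
        rw [sub_smul, one_smul, mul_smul, sub_eq_iff_eq_add, add_comm]
        exact h5
      refine ⟨(1 - c)⁻¹ * (c * (κ * hermForm n F 2 (S v) e)), ?_⟩
      rw [mul_smul, ← h7, smul_smul, inv_mul_cancel₀ (sub_ne_zero.2 (Ne.symm hc1)), one_smul]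
    obtain ⟨a, ha⟩ := h4 v1 e1
    obtain ⟨b, hb⟩ := h4 v2 e2
    have h5 := hS.herm v2 v1
    have h6 := hSn v1 hv1
    have h7 := hSn v2 hv2
    rw [ha, hb, e3, map_zero, herm_smul_left, herm_smul_right, he, mul_one] at h5
    rw [ha, herm_smul_left, herm_smul_right, he, mul_one] at h6
    rw [hb, herm_smul_left, herm_smul_right, he, mul_one] at h7
    rcases mul_eq_zero.1 h5 with h8 | h8
    · rw [h8, zero_mul] at h7
      exact zero_ne_one h7
    · rw [h8, mul_zero] at h6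
      exact zero_ne_one h6
  -- `S e` is a multiple of `e`
  have h5 : τ κ • S e = (κ * hermForm n F 2 (S e) e) • e := by
    have h6 := hc' e
    rw [hc1, one_smul] at h6
    unfold rf at h6
    rw [hS.add, hS.smul, he, mul_one] at h6
    exact add_left_cancel h6
  have hτκ : τ κ ≠ 0 := fun h => hκ0 ((map_eq_zero τ).1 h)
  obtain ⟨ξ, hξ⟩ : ∃ ξ : F, S e = ξ • e := by
    refine ⟨(τ κ)⁻¹ * (κ * hermForm n F 2 (S e) e), ?_⟩
    rw [mul_smul, ← h5, smul_smul, inv_mul_cancel₀ hτκ, one_smul]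
  have hξ0 : ξ ≠ 0 := by
    rintro rfl
    have h6 := hSn e he
    rw [hξ, zero_smul, herm_zero_left] at h6
    exact zero_ne_one h6
  have hτ : τ = 1 := by
    refine sig_one hF hκ0 hκ1 ?_
    have h6 := congrArg (fun v => hermForm n F 2 v e) h5
    simp only [hξ, herm_smul_left, he, mul_one] at h6
    exact mul_right_cancel₀ hξ0 h6
  rw [hτ] at hS
  -- rescale
  obtain ⟨S', hS'd⟩ : ∃ S' : (Fin n → F) → (Fin n → F), S' = fun v => ξ⁻¹ • S v := ⟨_, rfl⟩
  have hS' : Rep (x ^ 3) S' (1 : F ≃+* F) := by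
    rw [hS'd]
    exact hS.smulc (cube hF (inv_ne_zero hξ0))
  have hS'e : S' e = e := by
    rw [hS'd]
    change ξ⁻¹ • S e = e
    rw [hξ, smul_smul, inv_mul_cancel₀ hξ0, one_smul]
  have hS2 : ∀ v, S' (S' v) = v := by
    have h6 := hS'.mul hS'
    rw [← pow_add] at h6
    change Rep (x ^ 6) _ _ at h6
    rw [hx6] at h6
    obtain ⟨-, d, -, hd⟩ := Rep.of_one hF (by omega) h6
    have h7 := hd e
    change S' (S' e) = d • e at h7
    rw [hS'e, hS'e] at h7
    have h8 := congrArg (fun v => hermForm n F 2 v e) h7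
    simp only [herm_smul_left, he, mul_one] at h8
    intro v
    have h9 := hd v
    rwa [← h8, one_smul] at h9
  -- a vector moved by `S'` orthogonal to `e`
  have hsym : ∀ u v, hermForm n F 2 (S' u) v = hermForm n F 2 u (S' v) := fun u v => by
    rw [← rep_herm hS', hS2]
  obtain ⟨w0, hw0e, hw0⟩ : ∃ w, hermForm n F 2 w e = 0 ∧ S' w ≠ w := by
    by_contra hcon
    push Not at hcon
    apply h31
    refine hS'.eq_one (c := 1) one_ne_zero fun v => ?_
    have h6 : v = hermForm n F 2 v e • e + (v - hermForm n F 2 v e • e) := by abel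
    have h7 := hcon (v - hermForm n F 2 v e • e) (by rw [herm_sub_left, herm_smul_left, he, mul_one, sub_self])
    rw [one_smul]
    conv_lhs => rw [h6]
    conv_rhs => rw [h6]
    rw [hS'.add, rep_smul hS', hS'e, h7]
  obtain ⟨a, ha, haS, hae⟩ := exists_perp_unit hF hS' hS2 hoe (fun v hv i => by
    fin_cases i
    change hermForm n F 2 (S' v) e = 0
    rw [hsym, hS'e]
    exact hv 0) (w := w0) (fun i => by fin_cases i; exact hw0e) hw0
  have hae : hermForm n F 2 a e = 0 := hae 0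
  have hSae : hermForm n F 2 (S' a) e = 0 := by rw [hsym, hS'e, hae]
  have hSaa : hermForm n F 2 (S' a) (S' a) = 1 := by rw [rep_herm hS', ha]
  have hea := herm_eq_zero_swap hF hae
  have heSa := herm_eq_zero_swap hF hSae
  have hSaa' := herm_eq_zero_swap hF haS
  have ho3 : Orn (![e, a, S' a] : Fin 3 → Fin n → F) := by
    intro i j
    fin_cases i <;> fin_cases j <;> assumption
  have hinv3 : ∀ v, (∀ i, hermForm n F 2 v ((![e, a, S' a] : Fin 3 → Fin n → F) i) = 0) →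
      ∀ i, hermForm n F 2 (S' v) ((![e, a, S' a] : Fin 3 → Fin n → F) i) = 0 := by
    intro v hv i
    have h0 : hermForm n F 2 v e = 0 := hv 0
    have h1 : hermForm n F 2 v a = 0 := hv 1
    have h2 : hermForm n F 2 v (S' a) = 0 := hv 2
    fin_cases i
    · change hermForm n F 2 (S' v) e = 0
      rw [hsym, hS'e, h0]
    · change hermForm n F 2 (S' v) a = 0
      rw [hsym, h2]
    · change hermForm n F 2 (S' v) (S' a) = 0
      rw [rep_herm hS', h1]
  obtain ⟨φ, hφ, -⟩ := Q4.exists_phi hF hκ0 hκ1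
  by_cases hA : ∀ v, (∀ i, hermForm n F 2 v ((![e, a, S' a] : Fin 3 → Fin n → F) i) = 0) → S' v = v
  · -- trivial on the complement
    obtain ⟨b, hb, hb3⟩ := exists_unit hF ho3 (by omega)
    have hbS := hA b hb3
    have b0 : hermForm n F 2 b e = 0 := hb3 0
    have b1 : hermForm n F 2 b a = 0 := hb3 1
    have b2 : hermForm n F 2 b (S' a) = 0 := hb3 2
    have b0' := herm_eq_zero_swap hF b0
    have b1' := herm_eq_zero_swap hF b1
    have b2' := herm_eq_zero_swap hF b2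
    have ho : Orn (![e, a, S' a, b] : Fin 4 → Fin n → F) := by
      intro i j
      fin_cases i <;> fin_cases j <;> assumption
    refine false_of_frame hF (by omega) hP hκ0 hκ1 (φ := φ) ho hR 0 rfl hS' (σ := sA) (fun i => ?_) lA bA lA_iso bA_eq
      chainA
    fin_cases i
    · exact hS'e
    · rfl
    · exact hS2 a
    · exact hbS
  · push Not at hA
    obtain ⟨w, hw3, hw⟩ := hA
    obtain ⟨b, hb, hbS, hb3⟩ := exists_perp_unit hF hS' hS2 ho3 hinv3 hw3 hw
    have b0 : hermForm n F 2 b e = 0 := hb3 0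
    have b1 : hermForm n F 2 b a = 0 := hb3 1
    have b2 : hermForm n F 2 b (S' a) = 0 := hb3 2
    have b0' := herm_eq_zero_swap hF b0
    have b1' := herm_eq_zero_swap hF b1
    have b2' := herm_eq_zero_swap hF b2
    have hb3' := hinv3 b hb3
    have c0 : hermForm n F 2 (S' b) e = 0 := hb3' 0
    have c1 : hermForm n F 2 (S' b) a = 0 := hb3' 1
    have c2 : hermForm n F 2 (S' b) (S' a) = 0 := hb3' 2
    have c0' := herm_eq_zero_swap hF c0
    have c1' := herm_eq_zero_swap hF c1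
    have c2' := herm_eq_zero_swap hF c2
    have hSb : hermForm n F 2 (S' b) (S' b) = 1 := by rw [rep_herm hS', hb]
    have hbS' := herm_eq_zero_swap hF hbS
    have ho : Orn (![e, a, S' a, b, S' b] : Fin 5 → Fin n → F) := by
      intro i j
      fin_cases i <;> fin_cases j <;> assumption
    refine false_of_frame hF (by omega) hP hκ0 hκ1 (φ := φ) ho hR 0 rfl hS' (σ := sB) (fun i => ?_) lB bB lB_iso bB_eq
      chainB
    fin_cases i
    · exact hS'e
    · rfl
    · exact hS2 a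
    · rfl
    · exact hS2 b

/-- **`PSU_n(2)`, `n ≥ 5`** -/
theorem no_six_nine (hF : Fintype.card F = 2 ^ 2) (hn : 5 ≤ n) {x : MulAut (PSU n F 2)} (hP : PS 2 x)
    (hx : orderOf x = 6 ∨ orderOf x = 9) : False := by
  rcases hx with h | h
  · exact order_six hF hn hP h
  · exact order_nine hF hn hP h

/-- **`PSU_n(2)`, `n ≥ 5`** -/
theorem r69_psu_two (hF : Fintype.card F = 2 ^ 2) (hn : 5 ≤ n) : R69 (PSU n F 2) :=
  fun _ hx hP _ _ => no_six_nine hF hn hP hx

/-- **[E6], the form for `K ≃* PSU n F 2`** -/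
theorem r69_of_equiv {K : Type*} [Group K] [Finite K] (hF : Fintype.card F = 2 ^ 2) (hn : 5 ≤ n)
    (e : K ≃* PSU n F 2) : R69 K :=
  R69.congr e (r69_psu_two hF hn)

/-- **[E6]** -/
theorem r69_psu_two_of_nonempty {K : Type} [Group K] [Finite K] {F : Type} [Field F] [Fintype F] {n q : ℕ}
    (hF : Fintype.card F = q ^ 2) (hq : q = 2) (hn : 5 ≤ n) (e : Nonempty (K ≃* PSU n F q)) : R69 K := by
  subst hq
  exact r69_of_equiv hF hn e.some

end Cfsg.Agent.H487.SN
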