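import Mathlib

/-!
# Non-solvability criteria (helper487, for S3831 [E6])

* `braid_eq` : four elements with the braid relations of type `A₄` in a solvable group are equal.
* `not_solvable_word` : two elements `a`, `b` with `a = ⁅b a b⁻¹, (b⁻¹ a⁻¹ b) a (b⁻¹ a⁻¹ b)⁻¹⁆`.
-/

set_option autoImplicit false
set_option linter.unusedSectionVars false

namespace Cfsg.Agent.H487.SN

open Subgroup
open scoped commutatorElement

section Ab

variable {H : Type*} [Group H]

/-- the abelian step -/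
theorem braid_abelian {A : Subgroup H} (hN : A.Normal) (hA : ∀ x ∈ A, ∀ y ∈ A, x * y = y * x) {r1 r2 r3 r4 : H}
    (h12 : r1 * r2 * r1 = r2 * r1 * r2) (h23 : r2 * r3 * r2 = r3 * r2 * r3) (h34 : r3 * r4 * r3 = r4 * r3 * r4)
    (h13 : r1 * r3 = r3 * r1) (h14 : r1 * r4 = r4 * r1) (h24 : r2 * r4 = r4 * r2)
    (ha : r2 * r1⁻¹ ∈ A) (hb : r3 * r2⁻¹ ∈ A) (hc : r4 * r3⁻¹ ∈ A) : r2 = r1 ∧ r3 = r2 ∧ r4 = r3 := by
  obtain ⟨a, hea⟩ : ∃ a, a = r2 * r1⁻¹ := ⟨_, rfl⟩
  obtain ⟨b, heb⟩ : ∃ b, b = r3 * r2⁻¹ := ⟨_, rfl⟩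
  obtain ⟨c, hec⟩ : ∃ c, c = r4 * r3⁻¹ := ⟨_, rfl⟩
  rw [← hea] at ha
  rw [← heb] at hb
  rw [← hec] at hc
  have e2 : r2 = a * r1 := by rw [hea]; group
  have e3 : r3 = b * r2 := by rw [heb]; group
  have e4 : r4 = c * r3 := by rw [hec]; group
  -- conjugation by `r1`
  obtain ⟨T, hT⟩ : ∃ T : H →* H, T = (MulAut.conj r1).toMonoidHom := ⟨_, rfl⟩
  have hTa : ∀ x, T x = r1 * x * r1⁻¹ := fun x => by rw [hT]; rfl
  have hTA : ∀ x ∈ A, T x ∈ A := fun x hx => by rw [hTa]; exact hN.conj_mem x hx r1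
  have hab : a * b = b * a := hA a ha b hb
  have hac : a * c = c * a := hA a ha c hc
  have hbc : b * c = c * b := hA b hb c hc
  -- all the `r_i` act as `T`
  have k2 : ∀ x ∈ A, r2 * x * r2⁻¹ = T x := by
    intro x hx
    rw [e2, hTa]
    have h1 := hA a ha (r1 * x * r1⁻¹) (hN.conj_mem x hx r1)
    calc a * r1 * x * (a * r1)⁻¹ = a * (r1 * x * r1⁻¹) * a⁻¹ := by group
      _ = r1 * x * r1⁻¹ := by rw [h1]; group
  have k3 : ∀ x ∈ A, r3 * x * r3⁻¹ = T x := by
    intro x hx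
    have h0 := k2 x hx
    have h1 := hA b hb (T x) (hTA x hx)
    calc r3 * x * r3⁻¹ = b * (r2 * x * r2⁻¹) * b⁻¹ := by rw [e3]; group
      _ = T x := by rw [h0, h1]; group
  -- a braid relation gives a quadratic relation
  have quad : ∀ r y : H, y ∈ A → (∀ x ∈ A, r * x * r⁻¹ = T x) → r * (y * r) * r = (y * r) * r * (y * r) →
      T y = y * T (T y) := by
    intro r y hy hr h
    rw [← hr _ (hTA y hy), ← hr y hy]
    have h1 : r * y * r⁻¹ * (r * r * r) = y * (r * (r * y * r⁻¹) * r⁻¹) * (r * r * r) := by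
      calc r * y * r⁻¹ * (r * r * r) = r * (y * r) * r := by group
        _ = (y * r) * r * (y * r) := h
        _ = y * (r * (r * y * r⁻¹) * r⁻¹) * (r * r * r) := by group
    exact mul_right_cancel h1
  have qa : T a = a * T (T a) := quad r1 a ha (fun x _ => (hTa x).symm) (by rw [← e2]; exact h12)
  have qb : T b = b * T (T b) := quad r2 b hb k2 (by rw [← e3]; exact h23)
  have qc : T c = c * T (T c) := quad r3 c hc k3 (by rw [← e4]; exact h34)
  -- products
  have qm : ∀ x ∈ A, ∀ y ∈ A, T x = x * T (T x) → T y = y * T (T y) → T (x * y) = (x * y) * T (T (x * y)) := by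
    intro x hx y hy h1 h2
    have h3 := hA (T (T x)) (hTA _ (hTA x hx)) y hy
    calc T (x * y) = T x * T y := map_mul _ _ _
      _ = (x * T (T x)) * (y * T (T y)) := by rw [← h1, ← h2]
      _ = x * (T (T x) * y) * T (T y) := by group
      _ = x * y * (T (T x) * T (T y)) := by rw [h3]; group
      _ = (x * y) * T (T (x * y)) := by rw [map_mul, map_mul]
  -- fixed elements
  have fx : ∀ x, T x = x → T x = x * T (T x) → x = 1 := by
    intro x h1 h2
    rw [h1, h1] at h2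
    exact (left_eq_mul.1 h2)
  have comm : ∀ r y : H, (∀ x ∈ A, r * x * r⁻¹ = T x) → y ∈ A → r * (y * r) = (y * r) * r → T y = y := by
    intro r y hr hy h
    rw [← hr y hy]
    calc r * y * r⁻¹ = r * (y * r) * r⁻¹ * r⁻¹ := by group
      _ = y := by rw [h]; group
  have f1 : b * a = 1 := by
    refine fx _ (comm r1 (b * a) (fun x _ => (hTa x).symm) (mul_mem hb ha) ?_) (qm b hb a ha qb qa)
    have e : b * a * r1 = r3 := by rw [e3, e2]; group
    rw [e]; exact h13
  have f2 : c * b = 1 := by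
    refine fx _ (comm r2 (c * b) k2 (mul_mem hc hb) ?_) (qm c hc b hb qc qb)
    have e : c * b * r2 = r4 := by rw [e4, e3]; group
    rw [e]; exact h24
  have f3 : c * (b * a) = 1 := by
    refine fx _ (comm r1 (c * (b * a)) (fun x _ => (hTa x).symm) (mul_mem hc (mul_mem hb ha)) ?_)
      (qm c hc (b * a) (mul_mem hb ha) qc (qm b hb a ha qb qa))
    have e : c * (b * a) * r1 = r4 := by rw [e4, e3, e2]; group
    rw [e]; exact h14
  rw [f1, mul_one] at f3
  rw [f3, one_mul] at f2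
  rw [f2, one_mul] at f1
  refine ⟨by rw [e2, f1, one_mul], by rw [e3, f2, one_mul], by rw [e4, f3, one_mul]⟩

end Ab

variable {G : Type*} [Group G]

/-- **the braid relations of type `A₄` in a solvable group** -/
theorem braid_eq [Group.IsSolvable G] {r1 r2 r3 r4 : G}
    (h12 : r1 * r2 * r1 = r2 * r1 * r2) (h23 : r2 * r3 * r2 = r3 * r2 * r3) (h34 : r3 * r4 * r3 = r4 * r3 * r4)
    (h13 : r1 * r3 = r3 * r1) (h14 : r1 * r4 = r4 * r1) (h24 : r2 * r4 = r4 * r2) : r2 = r1 ∧ r3 = r2 := by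
  have key : ∀ n : ℕ, r2 * r1⁻¹ ∈ derivedSeries G n ∧ r3 * r2⁻¹ ∈ derivedSeries G n ∧
      r4 * r3⁻¹ ∈ derivedSeries G n := by
    intro n
    induction n with
    | zero => simp
    | succ n ih =>
      let f := QuotientGroup.mk' (derivedSeries G (n + 1))
      have hmem : ∀ x, f x = 1 ↔ x ∈ derivedSeries G (n + 1) := fun x => by
        rw [← MonoidHom.mem_ker, QuotientGroup.ker_mk']
      have hsur : Function.Surjective f := QuotientGroup.mk'_surjective _
      have hN : ((derivedSeries G n).map f).Normal := (derivedSeries_normal G n).map f hsur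
      have hA : ∀ x ∈ (derivedSeries G n).map f, ∀ y ∈ (derivedSeries G n).map f, x * y = y * x := by
        rintro _ ⟨x, hx, rfl⟩ _ ⟨y, hy, rfl⟩
        have h1 : ⁅x, y⁆ ∈ derivedSeries G (n + 1) := by
          rw [derivedSeries_succ]
          exact commutator_mem_commutator hx hy
        have h2 := (hmem _).2 h1
        rw [commutatorElement_def, map_mul, map_mul, map_mul, map_inv, map_inv] at h2
        calc f x * f y = (f x * f y * (f x)⁻¹ * (f y)⁻¹) * (f y * f x) := by group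
          _ = f y * f x := by rw [h2, one_mul]
      obtain ⟨i1, i2, i3⟩ := ih
      have m1 : f r2 * (f r1)⁻¹ ∈ (derivedSeries G n).map f := ⟨_, i1, by rw [map_mul, map_inv]⟩
      have m2 : f r3 * (f r2)⁻¹ ∈ (derivedSeries G n).map f := ⟨_, i2, by rw [map_mul, map_inv]⟩
      have m3 : f r4 * (f r3)⁻¹ ∈ (derivedSeries G n).map f := ⟨_, i3, by rw [map_mul, map_inv]⟩
      obtain ⟨j1, j2, j3⟩ := braid_abelian hN hA (by rw [← map_mul, ← map_mul, h12, map_mul, map_mul])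
        (by rw [← map_mul, ← map_mul, h23, map_mul, map_mul]) (by rw [← map_mul, ← map_mul, h34, map_mul, map_mul])
        (by rw [← map_mul, h13, map_mul]) (by rw [← map_mul, h14, map_mul]) (by rw [← map_mul, h24, map_mul])
        m1 m2 m3
      refine ⟨(hmem _).1 ?_, (hmem _).1 ?_, (hmem _).1 ?_⟩
      · rw [map_mul, map_inv, j1, mul_inv_cancel]
      · rw [map_mul, map_inv, j2, mul_inv_cancel]
      · rw [map_mul, map_inv, j3, mul_inv_cancel]
  obtain ⟨n, hn⟩ := (inferInstance : Group.IsSolvable G)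
  obtain ⟨i1, i2, -⟩ := key n
  rw [hn, mem_bot] at i1 i2
  exact ⟨mul_inv_eq_one.1 i1, mul_inv_eq_one.1 i2⟩

/-- braid relations in a solvable subgroup -/
theorem braid_eq_mem {K : Subgroup G} (hK : Group.IsSolvable K) {r1 r2 r3 r4 : G} (m1 : r1 ∈ K) (m2 : r2 ∈ K)
    (m3 : r3 ∈ K) (m4 : r4 ∈ K)
    (h12 : r1 * r2 * r1 = r2 * r1 * r2) (h23 : r2 * r3 * r2 = r3 * r2 * r3) (h34 : r3 * r4 * r3 = r4 * r3 * r4)
    (h13 : r1 * r3 = r3 * r1) (h14 : r1 * r4 = r4 * r1) (h24 : r2 * r4 = r4 * r2) : r2 = r1 ∧ r3 = r2 := by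
  have h := braid_eq (G := K) (r1 := ⟨r1, m1⟩) (r2 := ⟨r2, m2⟩) (r3 := ⟨r3, m3⟩) (r4 := ⟨r4, m4⟩)
    (Subtype.ext h12) (Subtype.ext h23) (Subtype.ext h34) (Subtype.ext h13) (Subtype.ext h14) (Subtype.ext h24)
  exact ⟨congrArg Subtype.val h.1, congrArg Subtype.val h.2⟩

/-- **a word certificate for non-solvability** -/
theorem not_solvable_word {a b : G} (ha : a ≠ 1)
    (h : a = ⁅b * a * b⁻¹, (b⁻¹ * a⁻¹ * b) * a * (b⁻¹ * a⁻¹ * b)⁻¹⁆) :
    ¬ Group.IsSolvable ↥(closure ({a, b} : Set G)) := by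
  intro hs
  obtain ⟨K, hK⟩ : ∃ K, K = closure ({a, b} : Set G) := ⟨_, rfl⟩
  have h1 : a ∈ K := by rw [hK]; exact subset_closure (by simp)
  have h2 : b ∈ K := by rw [hK]; exact subset_closure (by simp)
  rw [← hK] at hs
  obtain ⟨x, hx⟩ : ∃ x : K, x = ⟨a, h1⟩ := ⟨_, rfl⟩
  obtain ⟨y, hy⟩ : ∃ y : K, y = ⟨b, h2⟩ := ⟨_, rfl⟩
  have h3 : x = ⁅y * x * y⁻¹, (y⁻¹ * x⁻¹ * y) * x * (y⁻¹ * x⁻¹ * y)⁻¹⁆ := by
    rw [hx, hy]
    exact Subtype.ext h
  have key : ∀ n : ℕ, x ∈ derivedSeries K n := by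
    intro n
    induction n with
    | zero => simp
    | succ n ih =>
      rw [h3, derivedSeries_succ]
      exact commutator_mem_commutator ((derivedSeries_normal K n).conj_mem x ih _)
        ((derivedSeries_normal K n).conj_mem x ih _)
  obtain ⟨n, hn⟩ := hs
  have h4 := key n
  rw [hn, mem_bot, hx] at h4
  exact ha (congrArg Subtype.val h4)

end Cfsg.Agent.H487.SN
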