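import Cfsg.Agent.H487.SN.Frame

/-!
# The certificates (helper487, for S3831 [E6])

* `cert3` : three eigenvalues; `cert22` : two eigenvalues, each of multiplicity at least two;
  `cert6` : no eigenvalue.
-/

set_option autoImplicit false
set_option linter.unusedSectionVars false
set_option maxRecDepth 10000

namespace Cfsg.Agent.H487.SN

open Cfsg Matrix
open Cfsg.Agent.UGT.U2.FOne.PSU (Rep exists_rep)
open Cfsg.Agent.H459.Rad (PS)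
open scoped commutatorElement

/-- `ω` -/
abbrev qw : Q4 := ⟨false, true⟩
/-- `ω²` -/
abbrev qv : Q4 := ⟨true, true⟩

def L3 : Fin 5 → Fin 5 → Q4 :=
  ![![1, 1, 1, 0, 0], ![1, qw, qv, 0, 0], ![1, qv, qw, 0, 0], ![0, 0, 0, 1, 0], ![0, 0, 0, 0, 1]]
def l3 : List (Fin 5 → Q4) := [![1, qw, qv, 1, 0], ![1, qv, qw, 0, 1]]
def p3 : Equiv.Perm (Fin 5) := ⟨![1, 2, 0, 3, 4], ![2, 0, 1, 3, 4], by decide, by decide⟩
def m3 : Equiv.Perm (Fin 5) := ⟨![0, 3, 4, 1, 2], ![0, 3, 4, 1, 2], by decide, by decide⟩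

theorem l3_iso : ∀ c ∈ l3, hq c c = 0 := by decide +kernel
theorem L3_ne : ∀ i j, i ≠ j → ∀ q : Q4, L3 i ≠ fun t => q * L3 j t := by decide +kernel
theorem L3_p (d e : Q4) : d ≠ 0 → e ≠ 0 → ∀ i, ∃ q : Q4, q ≠ 0 ∧
    (fun t => (![1, qw, qv, d, e] : Fin 5 → Q4) t * L3 i t) = fun t => q * L3 (p3 i) t := by
  revert d e; decide +kernel
theorem L3_m : ∀ i, ∃ q : Q4, q ≠ 0 ∧ tql l3 (L3 i) = fun t => q * L3 (m3 i) t := by decide +kernel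
theorem p3_ne : p3 ≠ 1 := by decide +kernel
theorem p3_w : p3 = ⁅(m3 * p3 * m3⁻¹) * p3 * (m3 * p3 * m3⁻¹)⁻¹,
      ((m3 * p3 * m3⁻¹)⁻¹ * p3⁻¹ * (m3 * p3 * m3⁻¹)) * p3 * ((m3 * p3 * m3⁻¹)⁻¹ * p3⁻¹ * (m3 * p3 * m3⁻¹))⁻¹⁆ := by
  decide +kernel

def L22 : Fin 5 → Fin 4 → Q4 :=
  ![![1, 1, 0, 0], ![0, 0, 1, 1], ![1, 1, 1, 1], ![1, 1, qw, qw], ![1, 1, qv, qv]]
def l22 : List (Fin 4 → Q4) := [![1, 1, qv, 1], ![1, 1, 1, qw], ![qw, qv, 1, 1], ![qv, 1, 1, 1]]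
def p22 : Equiv.Perm (Fin 5) := ⟨![0, 1, 3, 4, 2], ![0, 1, 4, 2, 3], by decide, by decide⟩
def m22 : Equiv.Perm (Fin 5) := ⟨![4, 2, 3, 0, 1], ![3, 4, 1, 2, 0], by decide, by decide⟩

theorem l22_iso : ∀ c ∈ l22, hq c c = 0 := by decide +kernel
theorem L22_ne : ∀ i j, i ≠ j → ∀ q : Q4, L22 i ≠ fun t => q * L22 j t := by decide +kernel
theorem L22_p : ∀ i, ∃ q : Q4, q ≠ 0 ∧
    (fun t => (![1, 1, qw, qw] : Fin 4 → Q4) t * L22 i t) = fun t => q * L22 (p22 i) t := by decide +kernel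
theorem L22_m : ∀ i, ∃ q : Q4, q ≠ 0 ∧ tql l22 (L22 i) = fun t => q * L22 (m22 i) t := by decide +kernel
theorem p22_ne : p22 ≠ 1 := by decide +kernel
theorem p22_w : p22 = ⁅(m22 * p22 * m22⁻¹) * p22 * (m22 * p22 * m22⁻¹)⁻¹,
      ((m22 * p22 * m22⁻¹)⁻¹ * p22⁻¹ * (m22 * p22 * m22⁻¹)) * p22 *
        ((m22 * p22 * m22⁻¹)⁻¹ * p22⁻¹ * (m22 * p22 * m22⁻¹))⁻¹⁆ := by
  decide +kernel

def L6 : Fin 6 → Fin 6 → Q4 := fun i => Pi.single i 1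
def l6 : List (Fin 6 → Q4) := [![1, 1, 0, 0, 0, 0], ![1, 0, 0, 1, 0, 0]]
def p6 : Equiv.Perm (Fin 6) := ⟨![1, 2, 0, 4, 5, 3], ![2, 0, 1, 5, 3, 4], by decide, by decide⟩
def m6 : Equiv.Perm (Fin 6) := ⟨![3, 0, 2, 1, 4, 5], ![1, 3, 2, 0, 4, 5], by decide, by decide⟩

theorem l6_iso : ∀ c ∈ l6, hq c c = 0 := by decide +kernel
theorem L6_ne : ∀ i j, i ≠ j → ∀ q : Q4, L6 i ≠ fun t => q * L6 j t := by decide +kernel
theorem L6_p (c : Q4) : c ≠ 0 → ∀ i, ∃ q : Q4, q ≠ 0 ∧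
    (fun t => (![1, 1, c, 1, 1, c] : Fin 6 → Q4) (p6.symm t) * L6 i (p6.symm t)) = fun t => q * L6 (p6 i) t := by
  revert c; decide +kernel
theorem L6_m : ∀ i, ∃ q : Q4, q ≠ 0 ∧ tql l6 (L6 i) = fun t => q * L6 (m6 i) t := by decide +kernel
theorem p6_ne : p6 ≠ 1 := by decide +kernel
theorem p6_w : p6 = ⁅(m6 * p6 * m6⁻¹) * p6 * (m6 * p6 * m6⁻¹)⁻¹,
      ((m6 * p6 * m6⁻¹)⁻¹ * p6⁻¹ * (m6 * p6 * m6⁻¹)) * p6 *
        ((m6 * p6 * m6⁻¹)⁻¹ * p6⁻¹ * (m6 * p6 * m6⁻¹))⁻¹⁆ := by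
  decide +kernel

variable {F : Type*} [Field F] [Fintype F] {n : ℕ}

/-- **three eigenvalues** -/
theorem cert3 (hF : Fintype.card F = 2 ^ 2) (hn : 3 ≤ n) {x : MulAut (PSU n F 2)} (hP : PS 2 x)
    {T : (Fin n → F) → (Fin n → F)} (hT : Rep x T (1 : F ≃+* F)) {φ : Q4 →+* F} (hφ : Function.Surjective φ)
    {f : Fin 5 → Fin n → F} (ho : Orn f) {d e : Q4} (hd : d ≠ 0) (he : e ≠ 0)
    (h : ∀ i, T (f i) = φ ((![1, qw, qv, d, e] : Fin 5 → Q4) i) • f i) : False :=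
  false_of_cert hF hn hP hT hφ ho (map_cb hT (π := Equiv.refl _) h) L3 l3 p3 m3 l3_iso L3_ne (L3_p d e hd he) L3_m
    p3_ne p3_w

/-- **two eigenvalues, each of multiplicity at least two** -/
theorem cert22 (hF : Fintype.card F = 2 ^ 2) (hn : 3 ≤ n) {x : MulAut (PSU n F 2)} (hP : PS 2 x)
    {T : (Fin n → F) → (Fin n → F)} (hT : Rep x T (1 : F ≃+* F)) {φ : Q4 →+* F} (hφ : Function.Surjective φ)
    {f : Fin 4 → Fin n → F} (ho : Orn f)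
    (h : ∀ i, T (f i) = φ ((![1, 1, qw, qw] : Fin 4 → Q4) i) • f i) : False :=
  false_of_cert hF hn hP hT hφ ho (map_cb hT (π := Equiv.refl _) h) L22 l22 p22 m22 l22_iso L22_ne L22_p L22_m
    p22_ne p22_w

/-- **no eigenvalue** -/
theorem cert6 (hF : Fintype.card F = 2 ^ 2) (hn : 3 ≤ n) {x : MulAut (PSU n F 2)} (hP : PS 2 x)
    {T : (Fin n → F) → (Fin n → F)} (hT : Rep x T (1 : F ≃+* F)) {φ : Q4 →+* F} (hφ : Function.Surjective φ)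
    {f : Fin 6 → Fin n → F} (ho : Orn f) {c : Q4} (hc : c ≠ 0)
    (h : ∀ i, T (f i) = φ ((![1, 1, c, 1, 1, c] : Fin 6 → Q4) i) • f (p6 i)) : False :=
  false_of_cert hF hn hP hT hφ ho (map_cb hT (π := p6) h) L6 l6 p6 m6 l6_iso L6_ne (L6_p c hc) L6_m
    p6_ne p6_w

/-! ### the chains of reflections -/

/-- the swap of the second and third coordinate -/
def sA : Equiv.Perm (Fin 4) := ⟨![0, 2, 1, 3], ![0, 2, 1, 3], by decide, by decide⟩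
def lA : List (Fin 4 → Q4) := [![1, 0, 1, 0], ![1, 1, 1, 1]]
def sB : Equiv.Perm (Fin 5) := ⟨![0, 2, 1, 4, 3], ![0, 2, 1, 4, 3], by decide, by decide⟩
def lB : List (Fin 5 → Q4) := [![1, 0, 0, 0, 1], ![1, 1, qw, 0, 1]]

/-- the chain conditions -/
def Chain {k : ℕ} (a b c d : Fin k → Q4) : Prop :=
  hq a a = 1 ∧ hq b b = 1 ∧ hq c c = 1 ∧ hq d d = 1 ∧ hq a b ≠ 0 ∧ hq b c ≠ 0 ∧ hq c d ≠ 0 ∧
    hq a c = 0 ∧ hq a d = 0 ∧ hq b d = 0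

instance {k : ℕ} (a b c d : Fin k → Q4) : Decidable (Chain a b c d) := by unfold Chain; infer_instance

theorem lA_iso : ∀ c ∈ lA, hq c c = 0 := by decide +kernel
theorem lB_iso : ∀ c ∈ lB, hq c c = 0 := by decide +kernel

/-- inverse images -/
def bA : Fin 4 → Q4 := tql lA.reverse (Pi.single 0 1)
def bB : Fin 5 → Q4 := tql lB.reverse (Pi.single 0 1)

theorem bA_eq : tql lA bA = Pi.single 0 1 := by decide +kernel
theorem bB_eq : tql lB bB = Pi.single 0 1 := by decide +kernel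

theorem chainA : Chain (tql lA (fun j => bA (sA.symm j))) (tql lA (Pi.single 0 1)) (Pi.single 0 1)
    (fun j => tql lA (Pi.single 0 1) (sA.symm j)) := by decide +kernel
theorem chainB : Chain (tql lB (fun j => bB (sB.symm j))) (tql lB (Pi.single 0 1)) (Pi.single 0 1)
    (fun j => tql lB (Pi.single 0 1) (sB.symm j)) := by decide +kernel

end Cfsg.Agent.H487.SN
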