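import Cfsg.Agent.H487.SN.Braid
import Cfsg.Agent.H487.SN.QFour
import Cfsg.Agent.H106.MOwnPSU
import Cfsg.Agent.H716.S5.Base
import Cfsg.Agent.H21.SN.Tools

/-!
# Orthonormal frames over the field with four elements (helper487, for S3831 [E6])

* `Orn f` : `f` is orthonormal; `cb φ f a` : combinations with coefficients in `Q4`.
* `false_of_cert` : a non-solvable permutation group on lines permuted by `T` and by a product of transvections.
-/

set_option autoImplicit false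
set_option linter.unusedSectionVars false

namespace Cfsg.Agent.H487.SN

open Cfsg Matrix
open Cfsg.Agent.LieClassical.HermBasic Cfsg.Agent.LieClassical.HermSiegel
open Cfsg.Agent.ClassicalGeometry.PSUAutBasic
open Cfsg.Agent.UGT.U2.FOne.PSU (Rep exists_rep)
open Cfsg.Agent.H459.Rad (PS)
open scoped commutatorElement

/-- the hermitian product on coordinates -/
def hq {k : ℕ} (a b : Fin k → Q4) : Q4 := ∑ i, a i * Q4.cj (b i)

/-- the transvection with centre `c` on coordinates -/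
def tq {k : ℕ} (c a : Fin k → Q4) : Fin k → Q4 := fun i => a i + hq a c * c i

/-- a product of transvections -/
def tql {k : ℕ} : List (Fin k → Q4) → (Fin k → Q4) → (Fin k → Q4)
  | [], a => a
  | c :: l, a => tq c (tql l a)

variable {F : Type*} [Field F] [Fintype F] {n : ℕ}

/-- orthonormal families -/
def Orn {k : ℕ} (f : Fin k → Fin n → F) : Prop :=
  ∀ i j, hermForm n F 2 (f i) (f j) = if i = j then 1 else 0

/-- combinations with coefficients in `Q4` -/
def cb (φ : Q4 →+* F) {k : ℕ} (f : Fin k → Fin n → F) (a : Fin k → Q4) : Fin n → F := ∑ i, φ (a i) • f i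

theorem phi_injective (φ : Q4 →+* F) : Function.Injective φ := by
  rw [injective_iff_map_eq_zero]
  intro x hx
  by_contra h
  have h1 := congrArg φ (Q4.norm_eq h)
  rw [map_mul, hx, zero_mul, map_one] at h1
  exact zero_ne_one h1

section Cb

variable {φ : Q4 →+* F} {k : ℕ} {f : Fin k → Fin n → F}

theorem cb_add (a b : Fin k → Q4) : cb φ f (a + b) = cb φ f a + cb φ f b := by
  unfold cb
  rw [← Finset.sum_add_distrib]
  refine Finset.sum_congr rfl fun i _ => ?_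
  rw [Pi.add_apply, map_add, add_smul]

theorem cb_smul (c : Q4) (a : Fin k → Q4) : cb φ f (fun i => c * a i) = φ c • cb φ f a := by
  unfold cb
  rw [Finset.smul_sum]
  refine Finset.sum_congr rfl fun i _ => ?_
  rw [map_mul, mul_smul]

theorem cb_single (i : Fin k) : cb φ f (Pi.single i 1) = f i := by
  unfold cb
  rw [Finset.sum_eq_single i]
  · rw [Pi.single_eq_same, map_one, one_smul]
  · intro j _ hj
    rw [Pi.single_eq_of_ne hj, map_zero, zero_smul]
  · intro h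
    exact absurd (Finset.mem_univ i) h

theorem herm_cb_right (_hF : Fintype.card F = 2 ^ 2) (ho : Orn f) (a : Fin k → Q4) (j : Fin k) :
    hermForm n F 2 (cb φ f a) (f j) = φ (a j) := by
  unfold cb
  rw [herm_sum_left, Finset.sum_eq_single j]
  · rw [herm_smul_left, ho, if_pos rfl, mul_one]
  · intro i _ hi
    rw [herm_smul_left, ho, if_neg hi, mul_zero]
  · intro h
    exact absurd (Finset.mem_univ j) h

theorem herm_cb (hF : Fintype.card F = 2 ^ 2) (ho : Orn f) (a b : Fin k → Q4) :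
    hermForm n F 2 (cb φ f a) (cb φ f b) = φ (hq a b) := by
  conv_lhs => rw [show cb φ f b = ∑ i, φ (b i) • f i from rfl]
  rw [herm_sum_right hF, hq, map_sum]
  refine Finset.sum_congr rfl fun i _ => ?_
  rw [herm_smul_right, herm_cb_right hF ho, map_mul, Q4.cj_eq, map_pow, mul_comm]

theorem cb_inj (hF : Fintype.card F = 2 ^ 2) (ho : Orn f) {a b : Fin k → Q4} (h : cb φ f a = cb φ f b) : a = b := by
  funext j
  apply phi_injective φ
  rw [← herm_cb_right hF ho a j, h, herm_cb_right hF ho b j]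

/-- a semi-isometry on combinations -/
theorem map_cb {α : MulAut (PSU n F 2)} {T : (Fin n → F) → (Fin n → F)} (hT : Rep α T (1 : F ≃+* F))
    {π : Equiv.Perm (Fin k)} {d : Fin k → Q4} (h : ∀ i, T (f i) = φ (d i) • f (π i)) (a : Fin k → Q4) :
    T (cb φ f a) = cb φ f (fun j => d (π.symm j) * a (π.symm j)) := by
  have hsum : ∀ (s : Finset (Fin k)) (g : Fin k → Fin n → F), T (∑ i ∈ s, g i) = ∑ i ∈ s, T (g i) := by
    intro s g
    classical
    induction s using Finset.induction_on with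
    | empty => rw [Finset.sum_empty, Finset.sum_empty, hT.zero]
    | insert i s hi ih => rw [Finset.sum_insert hi, Finset.sum_insert hi, hT.add, ih]
  unfold cb
  rw [hsum]
  conv_rhs => rw [← Equiv.sum_comp π]
  refine Finset.sum_congr rfl fun i _ => ?_
  rw [hT.smul, h, smul_smul]
  change (φ (a i) * φ (d i)) • f (π i) = φ (d (π.symm (π i)) * a (π.symm (π i))) • f (π i)
  rw [Equiv.symm_apply_apply, map_mul, mul_comm]

end Cb

theorem one_add_one (hF : Fintype.card F = 2 ^ 2) : (1 : F) + 1 ^ 2 = 0 := by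
  rw [one_pow, one_add_one_eq_two, Q4.two_eq_zero hF]

/-- **products of transvections** -/
theorem exists_prod (hF : Fintype.card F = 2 ^ 2) {φ : Q4 →+* F} {k : ℕ} {f : Fin k → Fin n → F} (ho : Orn f) :
    ∀ l : List (Fin k → Q4), (∀ c ∈ l, hq c c = 0) → ∃ g : SU n F 2, ∀ a, act g (cb φ f a) = cb φ f (tql l a) := by
  intro l
  induction l with
  | nil => exact fun _ => ⟨1, fun a => act_one _⟩
  | cons c l ih =>
    intro h
    obtain ⟨g, hg⟩ := ih fun c hc => h c (List.mem_cons_of_mem _ hc)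
    have h1 : hermForm n F 2 (cb φ f c) (cb φ f c) = 0 := by
      rw [herm_cb hF ho, h c List.mem_cons_self, map_zero]
    refine ⟨transv hF (cb φ f c) h1 1 (one_add_one hF) * g, fun a => ?_⟩
    rw [act_mul, hg, act_transv, herm_cb hF ho, one_mul, ← cb_smul, ← cb_add]
    rfl

/-- `PS 2` for the pair `x`, `x ^ g` -/
theorem ps2 {K : Type*} [Group K] {x : MulAut K} (h : PS 2 x) (g : K) :
    Group.IsSolvable ↥(Subgroup.closure ({x, MulAut.conj g * x * (MulAut.conj g)⁻¹} : Set (MulAut K))) := by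
  have h1 := h ![1, g]
  have h2 : Set.range (fun i => MulAut.conj ((![1, g] : Fin 2 → K) i) * x * (MulAut.conj ((![1, g] : Fin 2 → K) i))⁻¹) =
      ({x, MulAut.conj g * x * (MulAut.conj g)⁻¹} : Set (MulAut K)) := by
    ext y
    simp only [Set.mem_range, Fin.exists_fin_two, Matrix.cons_val_zero, Matrix.cons_val_one, map_one, one_mul,
      inv_one, mul_one, Set.mem_insert_iff, Set.mem_singleton_iff]
    exact or_congr eq_comm eq_comm
  rwa [h2] at h1

/-- the pairs (automorphism, permutation of the lines) -/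
def Gm (hF : Fintype.card F = 2 ^ 2) {r : ℕ} (w : Fin r → Fin n → F) :
    Subgroup (MulAut (PSU n F 2) × Equiv.Perm (Fin r)) where
  carrier := {p | ∃ S : (Fin n → F) → (Fin n → F), Rep p.1 S (1 : F ≃+* F) ∧
    ∀ i, ∃ c : F, c ≠ 0 ∧ S (w i) = c • w (p.2 i)}
  one_mem' := ⟨fun v => v, Rep.one, fun i => ⟨1, one_ne_zero, (one_smul _ _).symm⟩⟩
  mul_mem' := by
    rintro ⟨a, π⟩ ⟨b, μ⟩ ⟨S, hS, hS'⟩ ⟨R, hR, hR'⟩
    refine ⟨fun v => S (R v), ?_, fun i => ?_⟩
    · have h1 := hS.mul hR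
      rwa [one_mul] at h1
    · obtain ⟨c, hc, hc'⟩ := hR' i
      obtain ⟨d, hd, hd'⟩ := hS' (μ i)
      refine ⟨c * d, mul_ne_zero hc hd, ?_⟩
      change S (R (w i)) = (c * d) • w (π (μ i))
      change R (w i) = c • w (μ i) at hc'
      change S (w (μ i)) = d • w (π (μ i)) at hd'
      rw [hc', hS.smul, hd', smul_smul]
      rfl
  inv_mem' := by
    rintro ⟨a, π⟩ ⟨S, hS, hS'⟩
    obtain ⟨S', h1, h2, h3⟩ := hS.exists_inv hF
    refine ⟨S', by rwa [inv_one] at h1, fun i => ?_⟩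
    obtain ⟨c, hc, hc'⟩ := hS' (π⁻¹ i)
    refine ⟨c⁻¹, inv_ne_zero hc, ?_⟩
    change S' (w i) = c⁻¹ • w (π⁻¹ i)
    change S (w (π⁻¹ i)) = c • w (π (π⁻¹ i)) at hc'
    rw [show π (π⁻¹ i) = i from π.apply_symm_apply i] at hc'
    have h4 : w i = S (c⁻¹ • w (π⁻¹ i)) := by
      rw [hS.smul, hc']
      change w i = c⁻¹ • c • w i
      rw [smul_smul, inv_mul_cancel₀ hc, one_smul]
    rw [h4, h2]

/-- **lines** -/
theorem perm_solvable (hF : Fintype.card F = 2 ^ 2) (hn : 3 ≤ n) {x : MulAut (PSU n F 2)} (hP : PS 2 x)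
    {T : (Fin n → F) → (Fin n → F)} (hT : Rep x T (1 : F ≃+* F)) {g : SU n F 2} {r : ℕ} {w : Fin r → Fin n → F}
    (hw : ∀ i j, i ≠ j → ∀ c : F, w i ≠ c • w j) {π μ : Equiv.Perm (Fin r)}
    (hTw : ∀ i, ∃ c : F, c ≠ 0 ∧ T (w i) = c • w (π i))
    (hgw : ∀ i, ∃ c : F, c ≠ 0 ∧ act g (w i) = c • w (μ i)) :
    Group.IsSolvable ↥(Subgroup.closure ({π, μ * π * μ⁻¹} : Set (Equiv.Perm (Fin r)))) := by
  have h1 := ps2 hP (pr n F 2 g)
  have m1 : ((x, π) : MulAut (PSU n F 2) × Equiv.Perm (Fin r)) ∈ Gm hF w := ⟨T, hT, hTw⟩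
  have m2 : ((MulAut.conj (pr n F 2 g), μ) : MulAut (PSU n F 2) × Equiv.Perm (Fin r)) ∈ Gm hF w :=
    ⟨act g, Cfsg.Agent.H106.MOwnU.rep_conj g, hgw⟩
  have m3 := mul_mem (mul_mem m2 m1) (inv_mem m2)
  have hker : ∀ b : Equiv.Perm (Fin r), ((1 : MulAut (PSU n F 2)), b) ∈ Gm hF w → b = 1 := by
    rintro b ⟨S, hS, hS'⟩
    obtain ⟨-, c, hc, hc'⟩ := Rep.of_one hF hn hS
    ext i
    by_contra hne
    have hne' : b i ≠ i := fun h => hne (by rw [h]; rfl)
    obtain ⟨d, hd, hd'⟩ := hS' i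
    rw [hc'] at hd'
    refine hw (b i) i hne' (d⁻¹ * c) ?_
    rw [mul_smul, hd']
    change w (b i) = d⁻¹ • d • w (b i)
    rw [smul_smul, inv_mul_cancel₀ hd, one_smul]
  exact Cfsg.Agent.H716.S5.solvable_transfer (A := MulAut (PSU n F 2)) (B := Equiv.Perm (Fin r)) (Gm hF w)
    (fun b b' hb hb' => by rw [hker b hb, hker b' hb']) (x := (x, π))
    (y := (MulAut.conj (pr n F 2 g) * x * (MulAut.conj (pr n F 2 g))⁻¹, μ * π * μ⁻¹)) m1 m3 h1

/-- **the certificate** -/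
theorem false_of_cert (hF : Fintype.card F = 2 ^ 2) (hn : 3 ≤ n) {x : MulAut (PSU n F 2)} (hP : PS 2 x)
    {T : (Fin n → F) → (Fin n → F)} (hT : Rep x T (1 : F ≃+* F)) {φ : Q4 →+* F} (hφ : Function.Surjective φ)
    {k r : ℕ} {f : Fin k → Fin n → F} (ho : Orn f) {D : (Fin k → Q4) → (Fin k → Q4)}
    (hD : ∀ a, T (cb φ f a) = cb φ f (D a)) (L : Fin r → Fin k → Q4) (l : List (Fin k → Q4))
    (π μ : Equiv.Perm (Fin r)) (hl : ∀ c ∈ l, hq c c = 0)
    (hL : ∀ i j, i ≠ j → ∀ q : Q4, L i ≠ fun t => q * L j t)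
    (hπ : ∀ i, ∃ q : Q4, q ≠ 0 ∧ D (L i) = fun t => q * L (π i) t)
    (hμ : ∀ i, ∃ q : Q4, q ≠ 0 ∧ tql l (L i) = fun t => q * L (μ i) t)
    (h1 : π ≠ 1)
    (hw : π = ⁅(μ * π * μ⁻¹) * π * (μ * π * μ⁻¹)⁻¹,
      ((μ * π * μ⁻¹)⁻¹ * π⁻¹ * (μ * π * μ⁻¹)) * π * ((μ * π * μ⁻¹)⁻¹ * π⁻¹ * (μ * π * μ⁻¹))⁻¹⁆) : False := by
  obtain ⟨g, hg⟩ := exists_prod hF (φ := φ) ho l hl
  have hinj : ∀ q : Q4, q ≠ 0 → φ q ≠ 0 := fun q hq h => hq (phi_injective φ (by rw [h, map_zero]))
  refine not_solvable_word h1 hw (perm_solvable hF hn hP hT (g := g) (w := fun i => cb φ f (L i)) ?_ ?_ ?_)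
  · intro i j hij c h
    obtain ⟨q, rfl⟩ := hφ c
    rw [← cb_smul] at h
    exact hL i j hij q (cb_inj hF ho h)
  · intro i
    obtain ⟨q, hq, hq'⟩ := hπ i
    exact ⟨φ q, hinj q hq, by rw [hD, hq', cb_smul]⟩
  · intro i
    obtain ⟨q, hq, hq'⟩ := hμ i
    exact ⟨φ q, hinj q hq, by rw [hg, hq', cb_smul]⟩

end Cfsg.Agent.H487.SN
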