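import Cfsg.Agent.H487.SN.Cert

/-!
# Hermitian linear algebra over the field with four elements (helper487, for S3831 [E6])

* `exists_unit` : unit vectors orthogonal to orthonormal families; `expand` : orthonormal bases.
* `refl_of_three` : a linear isometry `T` with `T³ = 1` and `PS 2` is a scalar or a multiple of a reflection.
* `false_of_six` : `T³ = c ≠ 1` outside eigenvectors.
-/

set_option autoImplicit false
set_option linter.unusedSectionVars false

namespace Cfsg.Agent.H487.SN

open Cfsg Matrix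
open Cfsg.Agent.LieClassical.HermBasic Cfsg.Agent.LieClassical.HermSiegel
open Cfsg.Agent.ClassicalGeometry.PSUAutBasic
open Cfsg.Agent.UGT.U2.FOne.PSU (Rep exists_rep)
open Cfsg.Agent.H459.Rad (PS)

variable {F : Type*} [Field F] [Fintype F] {n : ℕ}

theorem cube (hF : Fintype.card F = 2 ^ 2) {x : F} (hx : x ≠ 0) : x * x ^ 2 = 1 := by
  have h4 := FiniteField.pow_card_sub_one_eq_one x hx
  rw [hF] at h4
  rw [← pow_succ']
  exact h4

theorem add_self (hF : Fintype.card F = 2 ^ 2) (x : F) : x + x = 0 := by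
  rw [← two_mul, Q4.two_eq_zero hF, zero_mul]

theorem self01 (hF : Fintype.card F = 2 ^ 2) (v : Fin n → F) : hermForm n F 2 v v = 0 ∨ hermForm n F 2 v v = 1 := by
  have h := herm_self_pow hF v
  have h1 : hermForm n F 2 v v * (hermForm n F 2 v v - 1) = 0 := by
    linear_combination h
  rcases mul_eq_zero.1 h1 with h2 | h2
  · exact Or.inl h2
  · exact Or.inr (sub_eq_zero.1 h2)

theorem Orn.comp {k l : ℕ} {f : Fin k → Fin n → F} (ho : Orn f) {ι : Fin l → Fin k} (hι : Function.Injective ι) :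
    Orn fun i => f (ι i) := by
  intro i j
  rw [ho]
  by_cases h : i = j
  · rw [if_pos h, if_pos (by rw [h])]
  · rw [if_neg h, if_neg fun h' => h (hι h')]

theorem Orn.cons (hF : Fintype.card F = 2 ^ 2) {k : ℕ} {f : Fin k → Fin n → F} (ho : Orn f) {v : Fin n → F}
    (hv : hermForm n F 2 v v = 1) (hvf : ∀ i, hermForm n F 2 v (f i) = 0) :
    Orn (Fin.cons v f : Fin (k + 1) → Fin n → F) := by
  intro i j
  refine Fin.cases ?_ (fun i => ?_) i
  · refine Fin.cases ?_ (fun j => ?_) j
    · rw [Fin.cons_zero, hv, if_pos rfl]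
    · rw [Fin.cons_zero, Fin.cons_succ, hvf, if_neg (Fin.succ_ne_zero j).symm]
  · refine Fin.cases ?_ (fun j => ?_) j
    · rw [Fin.cons_zero, Fin.cons_succ, herm_eq_zero_swap hF (hvf i), if_neg (Fin.succ_ne_zero i)]
    · rw [Fin.cons_succ, Fin.cons_succ, ho]
      by_cases h : i = j
      · rw [if_pos h, if_pos (by rw [h])]
      · rw [if_neg h, if_neg fun h' => h (Fin.succ_injective _ h')]

/-- the projection to the orthogonal complement -/
theorem perp_proj {k : ℕ} {f : Fin k → Fin n → F} (ho : Orn f) (w : Fin n → F) (j : Fin k) :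
    hermForm n F 2 (w - ∑ i, hermForm n F 2 w (f i) • f i) (f j) = 0 := by
  rw [herm_sub_left, herm_sum_left, Finset.sum_eq_single j]
  · rw [herm_smul_left, ho, if_pos rfl, mul_one, sub_self]
  · intro i _ hi
    rw [herm_smul_left, ho, if_neg hi, mul_zero]
  · intro h
    exact absurd (Finset.mem_univ j) h

theorem herm_proj (hF : Fintype.card F = 2 ^ 2) {k : ℕ} {f : Fin k → Fin n → F} (w : Fin n → F)
    {v : Fin n → F} (hv : ∀ i, hermForm n F 2 v (f i) = 0) :
    hermForm n F 2 v (w - ∑ i, hermForm n F 2 w (f i) • f i) = hermForm n F 2 v w := by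
  rw [herm_sub_right hF, herm_sum_right hF, Finset.sum_eq_zero, sub_zero]
  intro i _
  rw [herm_smul_right, hv, mul_zero]

theorem exists_ne_perp {k : ℕ} (f : Fin k → Fin n → F) (hk : k < n) :
    ∃ v : Fin n → F, v ≠ 0 ∧ ∀ i, hermForm n F 2 v (f i) = 0 := by
  let L : (Fin n → F) →ₗ[F] (Fin k → F) :=
    { toFun := fun v i => hermForm n F 2 v (f i)
      map_add' := fun u v => by funext i; exact herm_add_left _ _ _
      map_smul' := fun c v => by funext i; exact herm_smul_left _ _ _ }
  have h1 : LinearMap.ker L ≠ ⊥ := by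
    apply LinearMap.ker_ne_bot_of_finrank_lt
    rw [Module.finrank_fin_fun, Module.finrank_fin_fun]
    exact hk
  obtain ⟨v, hv, hv0⟩ := (Submodule.ne_bot_iff _).1 h1
  exact ⟨v, hv0, fun i => congrFun (LinearMap.mem_ker.1 hv) i⟩

/-- an isotropic pair contains a unit vector -/
theorem unit_of_pair (hF : Fintype.card F = 2 ^ 2) {v w : Fin n → F} (hv : hermForm n F 2 v v = 0)
    (hw : hermForm n F 2 w w = 0) (hvw : hermForm n F 2 v w ≠ 0) :
    ∃ a : F, hermForm n F 2 (a • v + w) (a • v + w) = 1 := by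
  obtain ⟨x, hx⟩ := exists_trace_eq hF (c := 1) (one_pow 2)
  obtain ⟨a, ha⟩ : ∃ a : F, a * hermForm n F 2 v w = x :=
    ⟨x * (hermForm n F 2 v w)⁻¹, by rw [mul_assoc, inv_mul_cancel₀ hvw, mul_one]⟩
  refine ⟨a, ?_⟩
  rw [herm_add_left, herm_add_right hF, herm_add_right hF, herm_smul_left, herm_smul_right, herm_smul_left,
    herm_smul_right, hv, hw, herm_swap hF v w]
  linear_combination hx + (1 + a * hermForm n F 2 v w + x) * ha

/-- **unit vectors in orthogonal complements** -/
theorem exists_unit (hF : Fintype.card F = 2 ^ 2) {k : ℕ} {f : Fin k → Fin n → F} (ho : Orn f) (hk : k < n) :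
    ∃ v : Fin n → F, hermForm n F 2 v v = 1 ∧ ∀ i, hermForm n F 2 v (f i) = 0 := by
  obtain ⟨v, hv0, hv⟩ := exists_ne_perp f hk
  rcases self01 hF v with h1 | h1
  · obtain ⟨w, hw⟩ := exists_herm_ne_zero hF hv0
    obtain ⟨w', hw'⟩ : ∃ w', w' = w - ∑ i, hermForm n F 2 w (f i) • f i := ⟨_, rfl⟩
    have h2 : ∀ i, hermForm n F 2 w' (f i) = 0 := fun i => by rw [hw']; exact perp_proj ho w i
    have h3 : hermForm n F 2 v w' ≠ 0 := by rw [hw', herm_proj hF w hv]; exact hw
    rcases self01 hF w' with h4 | h4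
    · obtain ⟨a, ha⟩ := unit_of_pair hF h1 h4 h3
      exact ⟨_, ha, fun i => by rw [herm_add_left, herm_smul_left, hv, h2, mul_zero, add_zero]⟩
    · exact ⟨w', h4, h2⟩
  · exact ⟨v, h1, hv⟩

/-- **expansion in an orthonormal basis** -/
theorem expand (hF : Fintype.card F = 2 ^ 2) {f : Fin n → Fin n → F} (ho : Orn f) (v : Fin n → F) :
    v = ∑ i, hermForm n F 2 v (f i) • f i := by
  have hli : LinearIndependent F f := by
    rw [Fintype.linearIndependent_iff]
    intro g hg j
    have h1 := congrArg (fun u => hermForm n F 2 u (f j)) hg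
    simp only [herm_zero_left] at h1
    rw [herm_sum_left, Finset.sum_eq_single j] at h1
    · rwa [herm_smul_left, ho, if_pos rfl, mul_one] at h1
    · intro i _ hi
      rw [herm_smul_left, ho, if_neg hi, mul_zero]
    · intro h
      exact absurd (Finset.mem_univ j) h
  have hsp : Submodule.span F (Set.range f) = ⊤ :=
    hli.span_eq_top_of_card_eq_finrank' (by rw [Fintype.card_fin, Module.finrank_fin_fun])
  have h2 : v - ∑ i, hermForm n F 2 v (f i) • f i = 0 := by
    refine herm_nondeg hF fun w => ?_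
    have hw : w ∈ Submodule.span F (Set.range f) := by rw [hsp]; exact Submodule.mem_top
    induction hw using Submodule.span_induction with
    | mem x hx =>
      obtain ⟨i, rfl⟩ := hx
      exact perp_proj ho v i
    | zero => exact herm_zero_right hF _
    | add x y _ _ hx hy => rw [herm_add_right hF, hx, hy, add_zero]
    | smul c x _ hx => rw [herm_smul_right, hx, mul_zero]
  exact sub_eq_zero.1 h2

section Eig

variable {x : MulAut (PSU n F 2)} {T : (Fin n → F) → (Fin n → F)}

theorem rep_herm (hT : Rep x T (1 : F ≃+* F)) (u v : Fin n → F) :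
    hermForm n F 2 (T u) (T v) = hermForm n F 2 u v := hT.herm u v

theorem rep_smul (hT : Rep x T (1 : F ≃+* F)) (c : F) (v : Fin n → F) : T (c • v) = c • T v := hT.smul c v

/-- eigenvectors with different eigenvalues are orthogonal -/
theorem eig_orth (hF : Fintype.card F = 2 ^ 2) (hT : Rep x T (1 : F ≃+* F)) {u v : Fin n → F} {c d : F}
    (hu : T u = c • u) (hv : T v = d • v) (hd : d ≠ 0) (hcd : c ≠ d) : hermForm n F 2 u v = 0 := by
  have h1 := rep_herm hT u v
  rw [hu, hv, herm_smul_left, herm_smul_right] at h1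
  by_contra h
  apply hcd
  have h2 : (c * d ^ 2) * hermForm n F 2 u v = 1 * hermForm n F 2 u v := by linear_combination h1
  have h3 := mul_right_cancel₀ h h2
  have h4 := cube hF hd
  linear_combination (-c) * h4 + d * h3

/-- a unit eigenvector in an invariant orthogonal complement -/
theorem exists_unit_eig (hF : Fintype.card F = 2 ^ 2) (hT : Rep x T (1 : F ≃+* F))
    (h3 : ∀ v, T (T (T v)) = v) {k : ℕ} {f : Fin k → Fin n → F} (ho : Orn f)
    (hf : ∀ i, ∃ c : F, c ≠ 0 ∧ T (f i) = c • f i) (hk : k < n) :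
    ∃ v : Fin n → F, hermForm n F 2 v v = 1 ∧ (∀ i, hermForm n F 2 v (f i) = 0) ∧ ∃ c : F, c ≠ 0 ∧ T v = c • v := by
  obtain ⟨v, hv, hvf⟩ := exists_unit hF ho hk
  -- invariance
  have hinv : ∀ u, (∀ i, hermForm n F 2 u (f i) = 0) → ∀ i, hermForm n F 2 (T u) (f i) = 0 := by
    intro u hu i
    obtain ⟨c, hc, hc'⟩ := hf i
    have h1 := rep_herm hT u (f i)
    rw [hc', herm_smul_right, hu] at h1
    exact (mul_eq_zero.1 h1).resolve_left (pow_ne_zero _ hc)
  obtain ⟨P, hP⟩ : ∃ P : F → (Fin n → F), P = fun c => v + c ^ 2 • T v + c • T (T v) := ⟨_, rfl⟩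
  have hPf : ∀ c i, hermForm n F 2 (P c) (f i) = 0 := by
    intro c i
    rw [hP]
    change hermForm n F 2 (v + c ^ 2 • T v + c • T (T v)) (f i) = 0
    rw [herm_add_left, herm_add_left, herm_smul_left, herm_smul_left, hvf, hinv v hvf, hinv _ (hinv v hvf)]
    ring
  have hPT : ∀ c, c ≠ 0 → T (P c) = c • P c := by
    intro c hc
    have h4 := cube hF hc
    rw [hP]
    change T (v + c ^ 2 • T v + c • T (T v)) = c • (v + c ^ 2 • T v + c • T (T v))
    rw [hT.add, hT.add, rep_smul hT, rep_smul hT, h3, smul_add, smul_add, smul_smul, smul_smul, h4, one_smul,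
      ← pow_two]
    abel
  obtain ⟨w, hw0, hw1⟩ := Q4.exists_gen hF
  have h2 := Q4.two_eq_zero hF
  have hw : w ^ 2 + w + 1 = 0 := by
    have h4 := cube hF hw0
    have h5 : (w - 1) * (w ^ 2 + w + 1) = 0 := by linear_combination h4
    exact (mul_eq_zero.1 h5).resolve_left (sub_ne_zero.2 hw1)
  have hw20 : w ^ 2 ≠ 0 := pow_ne_zero _ hw0
  have hw2w : w ^ 2 ≠ w := by
    intro h
    have h4 : w * (w - 1) = 0 := by linear_combination h
    rcases mul_eq_zero.1 h4 with h5 | h5
    · exact hw0 h5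
    · exact hw1 (sub_eq_zero.1 h5)
  have hw21 : w ^ 2 ≠ 1 := by
    intro h
    have h4 := cube hF hw0
    rw [h, mul_one] at h4
    exact hw1 h4
  have hsum : P 1 + P w + P (w ^ 2) = v := by
    rw [hP]
    change (v + (1 : F) ^ 2 • T v + (1 : F) • T (T v)) + (v + w ^ 2 • T v + w • T (T v)) +
      (v + (w ^ 2) ^ 2 • T v + w ^ 2 • T (T v)) = v
    have e : (w ^ 2) ^ 2 = w := by
      have h4 := cube hF hw0
      linear_combination w * h4
    rw [e]
    match_scalars
    · linear_combination h2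
    · linear_combination hw
    · linear_combination hw
  by_contra hcon
  push Not at hcon
  have hz : ∀ c, c ≠ 0 → hermForm n F 2 (P c) (P c) = 0 := by
    intro c hc
    rcases self01 hF (P c) with h4 | h4
    · exact h4
    · exact absurd (hPT c hc) (hcon (P c) h4 (hPf c) c hc)
  have o1 := eig_orth hF hT (hPT 1 one_ne_zero) (hPT w hw0) hw0 (Ne.symm hw1)
  have o2 := eig_orth hF hT (hPT 1 one_ne_zero) (hPT (w ^ 2) hw20) hw20 (Ne.symm hw21)
  have o3 := eig_orth hF hT (hPT w hw0) (hPT (w ^ 2) hw20) hw20 (Ne.symm hw2w)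
  rw [← hsum] at hv
  rw [herm_add_left, herm_add_left, herm_add_right hF, herm_add_right hF, herm_add_right hF, herm_add_right hF,
    herm_add_right hF, herm_add_right hF, hz 1 one_ne_zero, hz w hw0, hz _ hw20, o1, o2, o3,
    herm_eq_zero_swap hF o1, herm_eq_zero_swap hF o2, herm_eq_zero_swap hF o3] at hv
  apply zero_ne_one (α := F)
  rw [← hv]
  ring

/-- **an orthonormal eigenbasis** -/
theorem exists_basis (hF : Fintype.card F = 2 ^ 2) (hT : Rep x T (1 : F ≃+* F))
    (h3 : ∀ v, T (T (T v)) = v) (k : ℕ) (hk : k ≤ n) :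
    ∃ f : Fin k → Fin n → F, Orn f ∧ ∀ i, ∃ c : F, c ≠ 0 ∧ T (f i) = c • f i := by
  induction k with
  | zero => exact ⟨fun i => i.elim0, fun i => i.elim0, fun i => i.elim0⟩
  | succ k ih =>
    obtain ⟨f, ho, hf⟩ := ih (by omega)
    obtain ⟨v, h1, h2, h4⟩ := exists_unit_eig hF hT h3 ho hf (by omega)
    refine ⟨Fin.cons v f, ho.cons hF h1 h2, fun i => ?_⟩
    refine Fin.cases ?_ (fun i => ?_) i
    · rw [Fin.cons_zero]; exact h4
    · rw [Fin.cons_succ]; exact hf i

theorem inj4 {α : Type*} {a b c d : α} (h1 : a ≠ b) (h2 : a ≠ c) (h3 : a ≠ d) (h4 : b ≠ c) (h5 : b ≠ d)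
    (h6 : c ≠ d) : Function.Injective ![a, b, c, d] := by
  intro s t h
  fin_cases s <;> fin_cases t <;> simp_all

theorem inj5 {α : Type*} {a b c d e : α} (h1 : a ≠ b) (h2 : a ≠ c) (h3 : a ≠ d) (h4 : b ≠ c) (h5 : b ≠ d)
    (h6 : c ≠ d) (h7 : a ≠ e) (h8 : b ≠ e) (h9 : c ≠ e) (h10 : d ≠ e) : Function.Injective ![a, b, c, d, e] := by
  intro s t h
  fin_cases s <;> fin_cases t <;> simp_all

end Eig

end Cfsg.Agent.H487.SN
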