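import Cfsg.Agent.H487.SN.Lin

/-!
# Elements of order three in the automorphism group of `PSU_n(2)` (helper487, for S3831 [E6])

* `refl_of_three` : a linear isometry `T` with `T³ = 1` and `PS 2` is a scalar or a multiple of a reflection.
* `false_of_six` : `T³ = c ≠ 1` outside eigenvectors.
-/

set_option autoImplicit false
set_option linter.unusedSectionVars false

namespace Cfsg.Agent.H487.SN

open Cfsg Matrix
open Cfsg.Agent.LieClassical.HermBasic Cfsg.Agent.LieClassical.HermSiegel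
open Cfsg.Agent.ClassicalGeometry.PSUAutBasic
open Cfsg.Agent.UGT.U2.FOne.PSU (Rep exists_rep)
open Cfsg.Agent.H459.Rad (PS)

variable {F : Type*} [Field F] [Fintype F] {n : ℕ}

/-- a multiple of a reflection -/
def IsRefl (T : (Fin n → F) → (Fin n → F)) : Prop :=
  ∃ (e : Fin n → F) (ζ κ : F), hermForm n F 2 e e = 1 ∧ ζ ≠ 0 ∧ κ ≠ 0 ∧ κ ≠ 1 ∧
    ∀ v, T v = ζ • (v + (κ * hermForm n F 2 v e) • e)

theorem IsRefl.of_smul {T T' : (Fin n → F) → (Fin n → F)} {c : F} (hc : c ≠ 0) (h : ∀ v, T v = c • T' v)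
    (h' : IsRefl T') : IsRefl T := by
  obtain ⟨e, ζ, κ, h1, h2, h3, h4, h5⟩ := h'
  exact ⟨e, c * ζ, κ, h1, mul_ne_zero hc h2, h3, h4, fun v => by rw [h, h5, smul_smul]⟩

section

variable {x : MulAut (PSU n F 2)} {T : (Fin n → F) → (Fin n → F)}

theorem rep_sum (hT : Rep x T (1 : F ≃+* F)) {ι : Type*} (s : Finset ι) (g : ι → Fin n → F) :
    T (∑ i ∈ s, g i) = ∑ i ∈ s, T (g i) := by
  classical
  induction s using Finset.induction_on with
  | empty => rw [Finset.sum_empty, Finset.sum_empty, hT.zero]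
  | insert i s hi ih => rw [Finset.sum_insert hi, Finset.sum_insert hi, hT.add, ih]

/-- one exceptional eigenvalue -/
theorem refl_of_eig (hF : Fintype.card F = 2 ^ 2) (hT : Rep x T (1 : F ≃+* F)) {f : Fin n → Fin n → F} (ho : Orn f)
    {i : Fin n} {ζ κ : F} (h0 : ζ ≠ 0) (hκ0 : κ ≠ 0) (hκ1 : κ ≠ 1) (hi : T (f i) = (ζ * (1 + κ)) • f i)
    (hj : ∀ j, j ≠ i → T (f j) = ζ • f j) : IsRefl T := by
  refine ⟨f i, ζ, κ, by rw [ho, if_pos rfl], h0, hκ0, hκ1, fun v => ?_⟩
  have h1 : T v = ∑ j, (ζ * hermForm n F 2 v (f j) + if j = i then ζ * κ * hermForm n F 2 v (f i) else 0) • f j := by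
    conv_lhs => rw [expand hF ho v]
    rw [rep_sum hT]
    refine Finset.sum_congr rfl fun j _ => ?_
    rw [rep_smul hT]
    by_cases h : j = i
    · rw [if_pos h, h, hi, smul_smul]
      congr 1
      ring
    · rw [if_neg h, hj j h, smul_smul, add_zero, mul_comm]
  rw [h1]
  simp only [add_smul, Finset.sum_add_distrib, ite_smul, zero_smul, Finset.sum_ite_eq', Finset.mem_univ, if_true,
    mul_smul]
  rw [← Finset.smul_sum, ← expand hF ho v, smul_add]

/-- all the eigenvalues equal -/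
theorem scalar_of_eig (hF : Fintype.card F = 2 ^ 2) (hT : Rep x T (1 : F ≃+* F)) {f : Fin n → Fin n → F} (ho : Orn f)
    {ζ : F} (hj : ∀ j, T (f j) = ζ • f j) (v : Fin n → F) : T v = ζ • v := by
  conv_lhs => rw [expand hF ho v]
  conv_rhs => rw [expand hF ho v]
  rw [rep_sum hT, Finset.smul_sum]
  refine Finset.sum_congr rfl fun j _ => ?_
  rw [rep_smul hT, hj, smul_comm]

/-- **the analysis of the elements with `T³ = 1`** -/
theorem refl_of_three (hF : Fintype.card F = 2 ^ 2) (hn : 5 ≤ n) (hP : PS 2 x) (hT : Rep x T (1 : F ≃+* F))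
    (h3 : ∀ v, T (T (T v)) = v) (hne : ∀ c : F, ¬ ∀ v, T v = c • v) : IsRefl T := by
  obtain ⟨f, ho, hf⟩ := exists_basis hF hT h3 n le_rfl
  choose ε hε0 hε using hf
  -- two different eigenvalues
  obtain ⟨i, j, hij⟩ : ∃ i j, ε i ≠ ε j := by
    by_contra hcon
    push Not at hcon
    have hn0 : 0 < n := by omega
    exact hne (ε ⟨0, hn0⟩) (scalar_of_eig hF hT ho fun j => by rw [hε, hcon j ⟨0, hn0⟩])
  -- rescale
  have hc0 : (ε i)⁻¹ ≠ 0 := inv_ne_zero (hε0 i)
  have hcc : (ε i)⁻¹ * (ε i)⁻¹ ^ 2 = 1 := cube hF hc0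
  have hR : Rep x (fun v => (ε i)⁻¹ • T v) (1 : F ≃+* F) := hT.smulc hcc
  obtain ⟨R, hRd⟩ : ∃ R : (Fin n → F) → (Fin n → F), R = fun v => (ε i)⁻¹ • T v := ⟨_, rfl⟩
  rw [← hRd] at hR
  have hTR : ∀ v, T v = ε i • R v := fun v => by
    rw [hRd]
    change T v = ε i • (ε i)⁻¹ • T v
    rw [smul_smul, mul_inv_cancel₀ (hε0 i), one_smul]
  refine IsRefl.of_smul (hε0 i) hTR ?_
  obtain ⟨φ, hφ, hφw⟩ := Q4.exists_phi hF (w := (ε i)⁻¹ * ε j) (mul_ne_zero hc0 (hε0 j)) (by
    intro h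
    apply hij
    have h4 : ε i * ((ε i)⁻¹ * ε j) = ε i * 1 := by rw [h]
    rw [← mul_assoc, mul_inv_cancel₀ (hε0 i), one_mul, mul_one] at h4
    exact h4.symm)
  have hd : ∀ k, ∃ d : Q4, φ d = (ε i)⁻¹ * ε k := fun k => hφ.2 _
  choose d hd using hd
  have hRf : ∀ k, R (f k) = φ (d k) • f k := fun k => by
    rw [hRd]
    change (ε i)⁻¹ • T (f k) = _
    rw [hε, smul_smul, hd]
  have hinj : Function.Injective φ := hφ.1
  have hd0 : ∀ k, d k ≠ 0 := fun k h => by
    have h4 := hd k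
    rw [h, map_zero] at h4
    exact mul_ne_zero hc0 (hε0 k) h4.symm
  have hdi : d i = 1 := hinj (by rw [hd, map_one, inv_mul_cancel₀ (hε0 i)])
  have hdj : d j = qw := hinj (by rw [hd]; exact hφw.symm)
  have hij' : i ≠ j := fun h => hij (by rw [h])
  have hval : ∀ q : Q4, q ≠ 0 → q = 1 ∨ q = qw ∨ q = qv := by decide
  by_cases h4 : ∃ k, d k = qv
  · -- three eigenvalues
    exfalso
    obtain ⟨k, hk⟩ := h4
    have hik : i ≠ k := fun h => by rw [← h, hdi] at hk; revert hk; decide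
    have hjk : j ≠ k := fun h => by rw [← h, hdj] at hk; revert hk; decide
    have hcard : 1 < ((Finset.univ : Finset (Fin n)) \ {i, j, k}).card := by
      have h5 : ({i, j, k} : Finset (Fin n)).card ≤ 3 := Finset.card_le_three
      have h6 := Finset.le_card_sdiff ({i, j, k} : Finset (Fin n)) Finset.univ
      rw [Finset.card_univ, Fintype.card_fin] at h6
      omega
    obtain ⟨a, ha, b, hb, hab⟩ := Finset.one_lt_card.1 hcard
    simp only [Finset.mem_sdiff, Finset.mem_univ, true_and, Finset.mem_insert, Finset.mem_singleton, not_or] at ha hb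
    have hι := inj5 hij' hik (Ne.symm ha.1) hjk (Ne.symm ha.2.1) (Ne.symm ha.2.2) (Ne.symm hb.1) (Ne.symm hb.2.1)
      (Ne.symm hb.2.2) hab
    refine cert3 hF (by omega) hP hR hφ.2 (ho.comp hι) (hd0 a) (hd0 b) fun s => ?_
    rw [hRf]
    congr 1
    fin_cases s
    · exact congrArg φ hdi
    · exact congrArg φ hdj
    · exact congrArg φ hk
    · rfl
    · rfl
  · push Not at h4
    have hval' : ∀ k, d k = 1 ∨ d k = qw := fun k => by
      rcases hval _ (hd0 k) with h5 | h5 | h5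
      · exact Or.inl h5
      · exact Or.inr h5
      · exact absurd h5 (h4 k)
    by_cases hA : ∃ k, k ≠ i ∧ d k = 1
    · by_cases hB : ∃ k, k ≠ j ∧ d k = qw
      · exfalso
        obtain ⟨a, ha, ha'⟩ := hA
        obtain ⟨b, hb, hb'⟩ := hB
        have h1w : (1 : Q4) ≠ qw := by decide
        have hι := inj4 (a := i) (b := a) (c := j) (d := b) (Ne.symm ha) hij'
          (fun h => h1w (by rw [← hdi, h, hb'])) (fun h => h1w (by rw [← ha', h, hdj]))
          (fun h => h1w (by rw [← ha', h, hb'])) (Ne.symm hb)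
        refine cert22 hF (by omega) hP hR hφ.2 (ho.comp hι) fun s => ?_
        rw [hRf]
        congr 1
        fin_cases s
        · exact congrArg φ hdi
        · exact congrArg φ ha'
        · exact congrArg φ hdj
        · exact congrArg φ hb'
      · push Not at hB
        refine refl_of_eig hF hR ho (i := j) (ζ := 1) (κ := φ qv) one_ne_zero
          (fun h => absurd (hinj (h.trans (map_zero φ).symm)) (by decide))
          (fun h => absurd (hinj (h.trans (map_one φ).symm)) (by decide)) ?_ fun k hk => ?_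
        · rw [hRf, hdj, one_mul, ← map_one φ, ← map_add]
          rfl
        · rw [hRf, (hval' k).resolve_right (hB k hk), map_one]
    · push Not at hA
      refine refl_of_eig hF hR ho (i := i) (ζ := φ qw) (κ := φ qw)
        (fun h => absurd (hinj (h.trans (map_zero φ).symm)) (by decide))
        (fun h => absurd (hinj (h.trans (map_zero φ).symm)) (by decide))
        (fun h => absurd (hinj (h.trans (map_one φ).symm)) (by decide)) ?_ fun k hk => ?_
      · rw [hRf, hdi]
        have e : φ qw * (1 + φ qw) = φ 1 := by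
          rw [← map_one φ, ← map_add, ← map_mul]
          congr 1
        rw [e]
      · rw [hRf, (hval' k).resolve_left (hA k hk)]

/-! ### no eigenvectors -/

/-- the step on `((v, v), (v, T v))` -/
def stp (c : Q4) (s : Q4 × Q4) : Q4 × Q4 := (s.2 + Q4.cj s.2, s.1 + Q4.cj c * Q4.cj s.2)

theorem stp_cycle : ∀ c : Q4, c ≠ 0 → c ≠ 1 → ∀ a : Q4, ∃ i : Fin 7, (stp c)^[i] (1, a) = (1, 0) := by
  decide +kernel

/-- a vector `v` with `v`, `T v` orthonormal -/
theorem exists_triple (hF : Fintype.card F = 2 ^ 2) (hT : Rep x T (1 : F ≃+* F)) {φ : Q4 →+* F}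
    (hφ : Function.Bijective φ) {P : (Fin n → F) → Prop} (hPa : ∀ u v, P u → P v → P (u + v))
    (hPT : ∀ v, P v → P (T v)) {c : Q4} (hc0 : c ≠ 0) (hc1 : c ≠ 1) (h3 : ∀ v, P v → T (T (T v)) = φ c • v)
    {v : Fin n → F} (hv : P v) (hv1 : hermForm n F 2 v v = 1) :
    ∃ w, P w ∧ hermForm n F 2 w w = 1 ∧ hermForm n F 2 w (T w) = 0 := by
  obtain ⟨a, ha⟩ := hφ.2 (hermForm n F 2 v (T v))
  have key : ∀ i : ℕ, ∃ w, P w ∧ hermForm n F 2 w w = φ ((stp c)^[i] (1, a)).1 ∧
      hermForm n F 2 w (T w) = φ ((stp c)^[i] (1, a)).2 := by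
    intro i
    induction i with
    | zero => exact ⟨v, hv, by rw [hv1]; exact (map_one φ).symm, ha.symm⟩
    | succ i ih =>
      obtain ⟨w, hw, h1, h2⟩ := ih
      rw [Function.iterate_succ_apply']
      obtain ⟨s, hs⟩ : ∃ s, s = (stp c)^[i] (1, a) := ⟨_, rfl⟩
      rw [← hs] at h1 h2 ⊢
      refine ⟨w + T w, hPa _ _ hw (hPT _ hw), ?_, ?_⟩
      · change _ = φ (s.2 + Q4.cj s.2)
        rw [herm_add_left, herm_add_right hF, herm_add_right hF, rep_herm hT, herm_swap hF w (T w), h1, h2,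
          map_add, Q4.cj_eq, map_pow]
        linear_combination φ s.1 * Q4.two_eq_zero hF
      · change _ = φ (s.1 + Q4.cj c * Q4.cj s.2)
        have h4 : hermForm n F 2 w (T (T w)) = φ (Q4.cj c * Q4.cj s.2) := by
          rw [← rep_herm hT, h3 w hw, herm_smul_right, herm_swap hF w (T w), h2, map_mul, Q4.cj_eq, Q4.cj_eq,
            map_pow, map_pow]
        rw [hT.add, herm_add_left, herm_add_right hF, herm_add_right hF, rep_herm hT, rep_herm hT, h4, h1, h2,
          map_add]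
        linear_combination φ s.2 * Q4.two_eq_zero hF
  obtain ⟨i, hi⟩ := stp_cycle c hc0 hc1 a
  obtain ⟨w, hw, h1, h2⟩ := key i
  rw [hi] at h1 h2
  exact ⟨w, hw, by rw [h1, map_one], by rw [h2, map_zero]⟩

/-- **`T³ = c ≠ 1` outside eigenvectors** -/
theorem false_of_six (hF : Fintype.card F = 2 ^ 2) (hn : 3 ≤ n) (hP : PS 2 x) (hT : Rep x T (1 : F ≃+* F))
    {k : ℕ} {g : Fin k → Fin n → F} (hg : Orn g) (hgT : ∀ i, ∃ c : F, c ≠ 0 ∧ T (g i) = c • g i) (hk : k + 3 < n)
    {c : F} (hc0 : c ≠ 0) (hc1 : c ≠ 1)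
    (h3 : ∀ v, (∀ i, hermForm n F 2 v (g i) = 0) → T (T (T v)) = c • v) : False := by
  obtain ⟨φ, hφ, hφc⟩ := Q4.exists_phi hF hc0 hc1
  have hqw0 : qw ≠ 0 := by decide
  have hqw1 : qw ≠ 1 := by decide
  have hinv : ∀ u, (∀ i, hermForm n F 2 u (g i) = 0) → ∀ i, hermForm n F 2 (T u) (g i) = 0 := by
    intro u hu i
    obtain ⟨c, hc, hc'⟩ := hgT i
    have h1 := rep_herm hT u (g i)
    rw [hc', herm_smul_right, hu] at h1
    exact (mul_eq_zero.1 h1).resolve_left (pow_ne_zero _ hc)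
  -- the first triple
  obtain ⟨v0, hv0, hv0g⟩ := exists_unit hF hg (by omega)
  obtain ⟨e, heg, he, heT⟩ := exists_triple hF hT hφ (P := fun v => ∀ i, hermForm n F 2 v (g i) = 0)
    (fun u v hu hv i => by rw [herm_add_left, hu, hv, add_zero]) hinv hqw0 hqw1
    (fun v hv => by rw [h3 v hv]; exact congrArg (· • v) hφc.symm) hv0g hv0
  have heTT : hermForm n F 2 (T e) (T (T e)) = 0 := by rw [rep_herm hT, heT]
  have heTTT : hermForm n F 2 e (T (T e)) = 0 := by
    rw [← rep_herm hT, h3 e heg, herm_smul_right, herm_eq_zero_swap hF heT, mul_zero]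
  -- the complement
  obtain ⟨P, hPd⟩ : ∃ P : (Fin n → F) → Prop, P = fun v => (∀ i, hermForm n F 2 v (g i) = 0) ∧
    hermForm n F 2 v e = 0 ∧ hermForm n F 2 v (T e) = 0 ∧ hermForm n F 2 v (T (T e)) = 0 := ⟨_, rfl⟩
  have hPa : ∀ u v, P u → P v → P (u + v) := by
    rw [hPd]
    rintro u v ⟨h1, h2, h4, h5⟩ ⟨j1, j2, j4, j5⟩
    exact ⟨fun i => by rw [herm_add_left, h1, j1, add_zero], by rw [herm_add_left, h2, j2, add_zero],
      by rw [herm_add_left, h4, j4, add_zero], by rw [herm_add_left, h5, j5, add_zero]⟩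
  have hPT : ∀ v, P v → P (T v) := by
    rw [hPd]
    rintro v ⟨h1, h2, h4, h5⟩
    refine ⟨hinv v h1, ?_, by rw [rep_herm hT, h2], by rw [rep_herm hT, h4]⟩
    have h6 := rep_herm hT v (T (T e))
    rw [h3 e heg, herm_smul_right, h5] at h6
    exact (mul_eq_zero.1 h6).resolve_left (pow_ne_zero _ hc0)
  have hTe : hermForm n F 2 (T e) (T e) = 1 := by rw [rep_herm hT, he]
  have hTTe : hermForm n F 2 (T (T e)) (T (T e)) = 1 := by rw [rep_herm hT, hTe]
  have o1 : Orn (Fin.cons e g : Fin (k + 1) → Fin n → F) := hg.cons hF he heg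
  have o2 : Orn (Fin.cons (T e) (Fin.cons e g) : Fin (k + 1 + 1) → Fin n → F) := by
    refine o1.cons hF hTe fun i => ?_
    refine Fin.cases ?_ (fun i => ?_) i
    · rw [Fin.cons_zero]; exact herm_eq_zero_swap hF heT
    · rw [Fin.cons_succ]; exact hinv e heg i
  have o3 : Orn (Fin.cons (T (T e)) (Fin.cons (T e) (Fin.cons e g)) : Fin (k + 1 + 1 + 1) → Fin n → F) := by
    refine o2.cons hF hTTe fun i => ?_
    refine Fin.cases ?_ (fun i => ?_) i
    · rw [Fin.cons_zero]; exact herm_eq_zero_swap hF heTT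
    · rw [Fin.cons_succ]
      refine Fin.cases ?_ (fun i => ?_) i
      · rw [Fin.cons_zero]; exact herm_eq_zero_swap hF heTTT
      · rw [Fin.cons_succ]; exact hinv _ (hinv e heg) i
  obtain ⟨v1, hv1, hv1g⟩ := exists_unit hF o3 (by omega)
  have hPv1 : P v1 := by
    rw [hPd]
    refine ⟨fun i => ?_, ?_, ?_, ?_⟩
    · have := hv1g i.succ.succ.succ
      rwa [Fin.cons_succ, Fin.cons_succ, Fin.cons_succ] at this
    · have := hv1g (Fin.succ (Fin.succ 0))
      rwa [Fin.cons_succ, Fin.cons_succ, Fin.cons_zero] at this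
    · have := hv1g (Fin.succ 0)
      rwa [Fin.cons_succ, Fin.cons_zero] at this
    · have := hv1g 0
      rwa [Fin.cons_zero] at this
  obtain ⟨f, hPf, hf, hfT⟩ := exists_triple hF hT hφ (P := P) hPa hPT hqw0 hqw1
    (fun v hv => by rw [h3 v (by rw [hPd] at hv; exact hv.1)]; exact congrArg (· • v) hφc.symm) hPv1 hv1
  have hPf1 := hPT f hPf
  have hPf2 := hPT _ hPf1
  rw [hPd] at hPf hPf1 hPf2
  obtain ⟨hfg, a1, a2, a3⟩ := hPf
  obtain ⟨-, b1, b2, b3⟩ := hPf1
  obtain ⟨-, c1, c2, c3⟩ := hPf2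
  have hfTT : hermForm n F 2 (T f) (T (T f)) = 0 := by rw [rep_herm hT, hfT]
  have hfTTT : hermForm n F 2 f (T (T f)) = 0 := by
    rw [← rep_herm hT, h3 f hfg, herm_smul_right, herm_eq_zero_swap hF hfT, mul_zero]
  have hTf : hermForm n F 2 (T f) (T f) = 1 := by rw [rep_herm hT, hf]
  have hTTf : hermForm n F 2 (T (T f)) (T (T f)) = 1 := by rw [rep_herm hT, hTf]
  have a1' := herm_eq_zero_swap hF a1
  have a2' := herm_eq_zero_swap hF a2
  have a3' := herm_eq_zero_swap hF a3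
  have b1' := herm_eq_zero_swap hF b1
  have b2' := herm_eq_zero_swap hF b2
  have b3' := herm_eq_zero_swap hF b3
  have c1' := herm_eq_zero_swap hF c1
  have c2' := herm_eq_zero_swap hF c2
  have c3' := herm_eq_zero_swap hF c3
  have d1' := herm_eq_zero_swap hF heT
  have d2' := herm_eq_zero_swap hF heTT
  have d3' := herm_eq_zero_swap hF heTTT
  have e1' := herm_eq_zero_swap hF hfT
  have e2' := herm_eq_zero_swap hF hfTT
  have e3' := herm_eq_zero_swap hF hfTTT
  have ho : Orn (![e, T e, T (T e), f, T f, T (T f)] : Fin 6 → Fin n → F) := by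
    intro i j
    fin_cases i <;> fin_cases j <;> assumption
  refine cert6 hF hn hP hT hφ.2 ho hqw0 fun i => ?_
  fin_cases i
  · exact ((congrArg (· • T e) (map_one φ)).trans (one_smul _ _)).symm
  · exact ((congrArg (· • T (T e)) (map_one φ)).trans (one_smul _ _)).symm
  · exact (h3 e heg).trans (congrArg (· • e) hφc.symm)
  · exact ((congrArg (· • T f) (map_one φ)).trans (one_smul _ _)).symm
  · exact ((congrArg (· • T (T f)) (map_one φ)).trans (one_smul _ _)).symm
  · exact (h3 f hfg).trans (congrArg (· • f) hφc.symm)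

end

end Cfsg.Agent.H487.SN
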